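import Groth.Agent.Vancyc.H693.Triv
import Groth.Agent.Vancyc.H695.ECgal
import Groth.Agent.Ega2.LACBc
import Groth.Agent.Sga1.UlaSL

/-!
# Étale invariance of the triviality of the action on a stalk
-/

set_option autoImplicit false
set_option backward.isDefEq.respectTransparency.types false
universe u

open CategoryTheory CategoryTheory.Limits AlgebraicGeometry Opposite Abelian IsLocalRing
open scoped Groth.Agent.Etcore.EtInst
open Groth.Agent.Etcore.EtInst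

namespace Groth.Agent.Vancyc.H693.ETmain

open Groth.Agent Groth.Agent.EtpbcB Groth.Agent.EtpbcB.StrictLoc Groth.Agent.Etcore.PullCoh
  Groth.Agent.Etcore.HpullCalc Groth.Agent.Vancyc.H695.ThetaG Groth.Agent.Vancyc.H695
  Groth.Agent.Vancyc.H693.Tr

theorem eq_self_of_equiv {A : AddCommGrpCat.{u + 1}} (φ : A ⟶ A) {B : Type*} [AddCommGroup B]
    (e : A ≃+ B) (μ : B →+ B) (h : ∀ z : A, e (φ z) = μ (e z)) (hφ : φ = 𝟙 A) (x : B) : μ x = x := by
  obtain ⟨z, rfl⟩ := e.surjective x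
  rw [← h, hφ]
  rfl

variable {R : Type u} [CommRing R] [IsLocalRing R] {K : Type u} [Field K] [Algebra R K]
  {Ω : Type u} [Field Ω] [Algebra K Ω] [Algebra R Ω] [IsScalarTower R K Ω]

/-- Triviality of the action in terms of the Milnor fibre. -/
theorem triv_iff_hpVia [IsNoetherianRing R] [IsFractionRing R K] [Algebra.IsSeparable K Ω]
    {X : Scheme.{u}} (f : X ⟶ Spec (CommRingCat.of R))
    {Ω' : Type u} [Field Ω'] [IsSepClosed Ω'] (z : Spec (CommRingCat.of Ω') ⟶ X)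
    {M : Scheme.{u}} {b : M ⟶ Spec (Osh z)} {a : M ⟶ VanCyc.fib R f Ω}
    (h : IsPullback a b (VanCyc.jA R f Ω) (toBase z))
    (t : M ⟶ X) (w : a ≫ VanCyc.jA R f Ω = t) (σ : Ω ≃ₐ[K] Ω) (m : M ⟶ M)
    (h1 : m ≫ a = a ≫ VanCyc.galGeom f σ) (h2 : m ≫ b = b) (wm : m ≫ t = t)
    [PreservesFiniteLimits (EtCoh.pull m)] (q : ℕ) (F : EtCoh.Ab X)
    (μ : HH M ((EtCoh.pull t).obj F) q →+ HH M ((EtCoh.pull t).obj F) q)
    (hμ : μ = hpVia m t t wm F q) : Triv f σ q F z ↔ ∀ x, μ x = x := by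
  have i1 : PreservesFiniteLimits (EtCoh.pull (VanCyc.jA R f Ω)) := S0101.result _
  have i2 : PreservesFiniteLimits (EtCoh.pull t) := S0101.result _
  have hacyc : ∀ J : EtCoh.Ab X, Injective J → ∀ n : ℕ,
      Subsingleton (HH M ((EtCoh.pull t).obj J) (n + 1)) := fun J hJ n =>
    AcycLim.subsingleton_H_local K Ω f (VanCyc.jA R f Ω) (VanCyc.fibStr R f Ω)
      (IsPullback.of_hasPullback f (VanCyc.toS R Ω)) z h t w J n.succ_pos
  have hj : IsAffineHom (VanCyc.jA R f Ω) :=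
    MorphismProperty.of_isPullback (IsPullback.of_hasPullback f (VanCyc.toS R Ω)).flip inferInstance
  obtain ⟨τ, hτ⟩ : ∃ τ : Unit → (VanCyc.Theta R Ω f ⟶ VanCyc.Theta R Ω f),
    ∀ k, τ k = VanCyc.thetaEnd f σ := ⟨_, fun _ => rfl⟩
  obtain ⟨ν, hν⟩ : ∃ ν : Unit → ∀ (F : EtCoh.Ab X) (q : ℕ),
      HH M ((EtCoh.pull t).obj F) q →+ HH M ((EtCoh.pull t).obj F) q,
    ∀ k F q, ν k F q = hpVia m t t wm F q := ⟨_, fun _ _ _ => rfl⟩
  obtain ⟨e, he⟩ := EC.exists_equiv_aux (VanCyc.jA R f Ω) z h t w hacyc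
    (fun _ => VanCyc.galGeom f σ) (fun _ => VanCyc.galGeom_jA f σ) (fun _ => m) (fun _ => h1)
    (fun _ => h2) (fun _ => wm) τ (fun k => (hτ k).trans (thetaEnd_eq f σ)) ν hν q F
  have he' := he ()
  rw [hτ, hν, ← hμ] at he'
  exact ⟨fun H => eq_self_of_equiv _ e μ he' H.elim,
    fun H => Triv.intro (ECpsi.eq_id_of_equiv _ e μ he' H)⟩

/-- Triviality of the pull-back, coefficients pulled back in two steps. -/
theorem forall_iff_of_th {M P X : Scheme.{u}} (m : M ⟶ M) (j : M ⟶ P) (p : P ⟶ X) (t : M ⟶ X)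
    (w : j ≫ p = t) (wj : m ≫ j = j) (wt : m ≫ t = t) [PreservesFiniteLimits (EtCoh.pull m)]
    (F : EtCoh.Ab X) (q : ℕ)
    (μ : HH M ((EtCoh.pull t).obj F) q →+ HH M ((EtCoh.pull t).obj F) q)
    (hμ : μ = hpVia m t t wt F q)
    (ν : HH M ((EtCoh.pull j).obj ((EtCoh.pull p).obj F)) q →+
      HH M ((EtCoh.pull j).obj ((EtCoh.pull p).obj F)) q)
    (hν : ν = hpVia m j j wj ((EtCoh.pull p).obj F) q) :
    (∀ x, μ x = x) ↔ (∀ x, ν x = x) := by
  have h1 : ∀ x, μ (HHmap (th j p t w F) q x) = HHmap (th j p t w F) q (ν x) := by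
    intro x
    rw [hμ, hν]
    exact ECgal.HHmap_th_hpVia m j p t w wj wt F q x
  have h2 : ∀ x, HHmap (inv (th j p t w F)) q (HHmap (th j p t w F) q x) = x := fun x => by
    rw [← HHmap_comp, IsIso.hom_inv_id, HHmap_id]
  have h3 : ∀ x, HHmap (th j p t w F) q (HHmap (inv (th j p t w F)) q x) = x := fun x => by
    rw [← HHmap_comp, IsIso.inv_hom_id, HHmap_id]
  constructor
  · intro H x
    rw [← h2 (ν x), ← h1, H, h2]
  · intro H x
    rw [← h3 x, h1, H]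

/-- **Étale invariance.** -/
theorem et [IsNoetherianRing R] [IsFractionRing R K] [Algebra.IsSeparable K Ω] : ET R K Ω := by
  intro X U f p hp Ω' _ _ z F n σ
  have hwe : WeaklyEtale p := etale_le_weaklyEtale _ _ _ hp
  have hSL := (OshHens.isStrictLoc_toBase z).comp p
  have h0 : toBase z (closedPoint (Osh z)) = z default := by
    rw [← pt_default, ← Scheme.Hom.comp_apply, pt_toBase]
  obtain ⟨e, he⟩ := Ega2.LACBc.exists_iso_toBase hSL (z ≫ p) (by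
    rw [Scheme.Hom.comp_apply, Scheme.Hom.comp_apply]
    exact congrArg p h0.symm)
  have hU := IsPullback.of_hasPullback (VanCyc.jA R (p ≫ f) Ω) (toBase z)
  have h1 := hU.paste_horiz (ECgal.isPullback_fibMap f p (Ω := Ω))
  have hX : IsPullback (pullback.fst (VanCyc.jA R (p ≫ f) Ω) (toBase z) ≫ ECgal.fibMap f p Ω)
      (pullback.snd (VanCyc.jA R (p ≫ f) Ω) (toBase z) ≫ e.hom) (VanCyc.jA R f Ω)
      (toBase (z ≫ p)) := by
    refine IsPullback.of_iso h1 (Iso.refl _) (Iso.refl _) e (Iso.refl _) ?_ ?_ ?_ ?_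
    · simp
    · simp
    · simp
    · simp [he]
  let m := ECpsi.mloc hU (VanCyc.galGeom (p ≫ f) σ) (VanCyc.galGeom_jA (p ≫ f) σ)
  have hm1 : m ≫ pullback.fst (VanCyc.jA R (p ≫ f) Ω) (toBase z) =
      pullback.fst (VanCyc.jA R (p ≫ f) Ω) (toBase z) ≫ VanCyc.galGeom (p ≫ f) σ :=
    ECpsi.mloc_a hU _ _
  have hm2 : m ≫ pullback.snd (VanCyc.jA R (p ≫ f) Ω) (toBase z) =
      pullback.snd (VanCyc.jA R (p ≫ f) Ω) (toBase z) := ECpsi.mloc_b hU _ _
  have hmX1 : m ≫ pullback.fst (VanCyc.jA R (p ≫ f) Ω) (toBase z) ≫ ECgal.fibMap f p Ω =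
      (pullback.fst (VanCyc.jA R (p ≫ f) Ω) (toBase z) ≫ ECgal.fibMap f p Ω) ≫
        VanCyc.galGeom f σ := by
    rw [← Category.assoc, hm1, Category.assoc, Category.assoc, ECgal.galGeom_fibMap]
  have hmX2 : m ≫ pullback.snd (VanCyc.jA R (p ≫ f) Ω) (toBase z) ≫ e.hom =
      pullback.snd (VanCyc.jA R (p ≫ f) Ω) (toBase z) ≫ e.hom := by
    rw [← Category.assoc, hm2]
  obtain ⟨tU, htU⟩ : ∃ tU, pullback.fst (VanCyc.jA R (p ≫ f) Ω) (toBase z) ≫
    VanCyc.jA R (p ≫ f) Ω = tU := ⟨_, rfl⟩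
  have htX : (pullback.fst (VanCyc.jA R (p ≫ f) Ω) (toBase z) ≫ ECgal.fibMap f p Ω) ≫
      VanCyc.jA R f Ω = tU ≫ p := by
    rw [Category.assoc, ECgal.fibMap_jA, ← Category.assoc, htU]
  have hmtU : m ≫ tU = tU := by
    rw [← htU, ← Category.assoc, hm1, Category.assoc, VanCyc.galGeom_jA]
  have hmtX : m ≫ tU ≫ p = tU ≫ p := by rw [← Category.assoc, hmtU]
  have i1 : PreservesFiniteLimits (EtCoh.pull m) := S0101.result _
  obtain ⟨μ, hμ⟩ : ∃ μ : HH _ ((EtCoh.pull (tU ≫ p)).obj F) n →+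
    HH _ ((EtCoh.pull (tU ≫ p)).obj F) n, μ = hpVia m (tU ≫ p) (tU ≫ p) hmtX F n := ⟨_, rfl⟩
  obtain ⟨ν, hν⟩ : ∃ ν : HH _ ((EtCoh.pull tU).obj ((EtCoh.pull p).obj F)) n →+
    HH _ ((EtCoh.pull tU).obj ((EtCoh.pull p).obj F)) n,
      ν = hpVia m tU tU hmtU ((EtCoh.pull p).obj F) n := ⟨_, rfl⟩
  rw [triv_iff_hpVia f (z ≫ p) hX (tU ≫ p) htX σ m hmX1 hmX2 hmtX n F μ hμ,
    triv_iff_hpVia (p ≫ f) z hU tU htU σ m hm1 hm2 hmtU n ((EtCoh.pull p).obj F) ν hν]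
  exact forall_iff_of_th m tU p (tU ≫ p) rfl hmtU hmtX F n μ hμ ν hν

end Groth.Agent.Vancyc.H693.ETmain
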