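import Groth.Agent.Vancyc.H693.ExactHom
import Mathlib.CategoryTheory.Abelian.RightDerived
import Mathlib.CategoryTheory.Abelian.Injective.Ext

/-!
# Dimension shifting with an endomorphism, for derived functors
-/

set_option autoImplicit false

universe w w' v u v' u'

open CategoryTheory CategoryTheory.Limits CategoryTheory.Abelian HomologicalComplex

namespace Groth.Agent.Vancyc.H693.AbsDer

open Groth.Agent.Vancyc.H693.Devissage

section Cyc

variable {B : Type u} [Category.{v} B] [Abelian B]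

/-- The cycles in degree zero of a complex with `Z = ker(C^0 → C^1)`. -/
theorem exists_cyc0 (C : CochainComplex B ℕ) {Z : B} (u : Z ⟶ C.X 0) [Mono u] (h : u ≫ C.d 0 1 = 0)
    (hex : (ShortComplex.mk u (C.d 0 1) h).Exact) :
    ∃ e : Z ≅ C.cycles 0, e.hom ≫ C.iCycles 0 = u := by
  have : Mono (ShortComplex.mk u (C.d 0 1) h).f := inferInstanceAs (Mono u)
  refine ⟨IsLimit.conePointUniqueUpToIso hex.fIsKernel (C.cyclesIsKernel 0 1 (by simp)), ?_⟩
  exact IsLimit.conePointUniqueUpToIso_hom_comp hex.fIsKernel (C.cyclesIsKernel 0 1 (by simp))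
    WalkingParallelPair.zero

end Cyc

variable {A : Type u} [Category.{v} A] [Abelian A] {B : Type u'} [Category.{v'} B] [Abelian B]
  [HasExt.{w} B]

theorem actsId_of_iso {W : B} {X Y : B} (e : X ≅ Y) (f : X ⟶ X) (g : Y ⟶ Y) (h : f ≫ e.hom = e.hom ≫ g)
    (p : ℕ) (hf : ActsId.{w} W f p) : ActsId.{w} W g p := by
  intro x
  have h1 : g = e.inv ≫ f ≫ e.hom := by rw [h, e.inv_hom_id_assoc]
  have h2 := hf (x.comp (Ext.mk₀ e.inv) (add_zero p))
  rw [h1, ← Ext.mk₀_comp_mk₀, ← Ext.mk₀_comp_mk₀, ← Ext.comp_assoc_of_third_deg_zero,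
    ← Ext.comp_assoc_of_third_deg_zero]
  rw [h2, Ext.comp_assoc_of_third_deg_zero, Ext.mk₀_comp_mk₀, e.inv_hom_id, Ext.comp_mk₀_id]

theorem subsingleton_ext_of_iso {W : B} {X Y : B} (e : X ≅ Y) (p : ℕ)
    (h : Subsingleton (Ext.{w} W X p)) : Subsingleton (Ext.{w} W Y p) := by
  refine subsingleton_of_forall_eq 0 fun x => ?_
  have h2 : x.comp (Ext.mk₀ e.inv) (add_zero p) = 0 := Subsingleton.elim _ _
  have h3 : (x.comp (Ext.mk₀ e.inv) (add_zero p)).comp (Ext.mk₀ e.hom) (add_zero p) = x := by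
    rw [Ext.comp_assoc_of_third_deg_zero, Ext.mk₀_comp_mk₀, e.inv_hom_id, Ext.comp_mk₀_id]
  rw [← h3, h2, Ext.zero_comp]

section Der

variable [HasInjectiveResolutions A] (Θ : A ⥤ B) [Θ.Additive] [PreservesFiniteLimits Θ]

theorem exists_cyc0_map {F : A} (J : InjectiveResolution F) :
    ∃ e : Θ.obj F ≅ ((Θ.mapHomologicalComplex (ComplexShape.up ℕ)).obj J.cocomplex).cycles 0,
      e.hom ≫ ((Θ.mapHomologicalComplex (ComplexShape.up ℕ)).obj J.cocomplex).iCycles 0 =
        Θ.map (J.ι.f 0) := by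
  have h0 : Θ.PreservesMonomorphisms := inferInstance
  have h1 : Mono (Θ.map (J.ι.f 0)) := Θ.map_mono (J.ι.f 0)
  have h2 := J.exact₀.map_of_mono_of_preservesKernel Θ inferInstance inferInstance
  exact @exists_cyc0 B _ _ ((Θ.mapHomologicalComplex (ComplexShape.up ℕ)).obj J.cocomplex) _
    (Θ.map (J.ι.f 0)) h1 _ h2

/-- **Dimension shifting for derived functors.** -/
theorem main (θ : Θ ⟶ Θ) {F : A} (J : InjectiveResolution F) (W : B) (n : ℕ) (hn : 1 ≤ n)
    (ha : ∀ (I : A) [Injective I] (p : ℕ), 1 ≤ p → Subsingleton (Ext.{w} W (Θ.obj I) p))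
    (hb : ∀ p q, 1 ≤ p → 1 ≤ q → q < n → Subsingleton (Ext.{w} W ((Θ.rightDerived q).obj F) p))
    (hc : ∀ s : W ⟶ Θ.obj (J.cocomplex.X n), s ≫ Θ.map (J.cocomplex.d n (n + 1)) = 0 →
      ∃ t : W ⟶ Θ.obj (J.cocomplex.X (n - 1)), t ≫ Θ.map (J.cocomplex.d (n - 1) n) = s)
    (hd : ActsId.{w} W (θ.app F) (n + 1)) (s : W ⟶ (Θ.rightDerived n).obj F) :
    s ≫ (NatTrans.rightDerived θ n).app F = s := by
  let C := (Θ.mapHomologicalComplex (ComplexShape.up ℕ)).obj J.cocomplex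
  let φ : C ⟶ C := (NatTrans.mapHomologicalComplex θ (ComplexShape.up ℕ)).app J.cocomplex
  obtain ⟨e, he⟩ := exists_cyc0_map Θ J
  have h1 : (θ.app F) ≫ e.hom = e.hom ≫ cyclesMap φ 0 := by
    rw [← cancel_mono (C.iCycles 0), Category.assoc, Category.assoc, cyclesMap_i, he, reassoc_of% he]
    exact (θ.naturality (J.ι.f 0)).symm
  have h2 := Devissage.main (C := C) φ W n (fun q p hp => ha (J.cocomplex.X q) p hp)
    (fun p q hp hq hqn => subsingleton_ext_of_iso (J.isoRightDerivedObj Θ q) p (hb p q hp hq hqn))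
    hc hn (actsId_of_iso e _ _ h1 _ hd) (s ≫ (J.isoRightDerivedObj Θ n).hom)
  rw [InjectiveResolution.rightDerived_app_eq θ J n]
  rw [← Category.assoc, ← Category.assoc]
  rw [Iso.comp_inv_eq]
  exact h2

end Der

end Groth.Agent.Vancyc.H693.AbsDer
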