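import Groth.Agent.Vancyc.H693.AbsDer
import Groth.Agent.Sga4h.FunLES

/-!
# Complements: lifting through an adjunction, derived functors and exact functors
-/

set_option autoImplicit false

universe w w' v u v' u' v'' u''

open CategoryTheory CategoryTheory.Limits CategoryTheory.Abelian HomologicalComplex

namespace Groth.Agent.Vancyc.H693.AbsDer2

open Groth.Agent.Vancyc.H693.Devissage Groth.Agent.Vancyc.H693.AbsDer Groth.Agent.Sga4h.FunLES

theorem homEquiv_symm_zero {A B : Type*} [Category* A] [Category* B] [Preadditive A] [Preadditive B]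
    {L : A ⥤ B} {G : B ⥤ A} [L.Additive] (adj : L ⊣ G) (X : A) (Y : B) :
    (adj.homEquiv X Y).symm 0 = 0 := by
  rw [Adjunction.homEquiv_counit, Functor.map_zero, zero_comp]

theorem isZero_homology_map {A : Type*} [Category* A] [Abelian A] {B : Type*} [Category* B] [Abelian B]
    (L : A ⥤ B) [L.Additive] [PreservesFiniteLimits L] [PreservesFiniteColimits L]
    (C : CochainComplex A ℕ) (q : ℕ) (h : C.ExactAt q) :
    IsZero (((L.mapHomologicalComplex (ComplexShape.up ℕ)).obj C).homology q) := by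
  have h1 : L.PreservesHomology := inferInstance
  have h2 : ((C.sc q).map L).Exact := ShortComplex.Exact.map h L
  exact (HomologicalComplex.exactAt_iff_isZero_homology _ q).1 h2

section Lift

variable {A : Type u} [Category.{v} A] [Abelian A] {B : Type u'} [Category.{v'} B] [Abelian B]
  {E : Type u''} [Category.{v''} E] [Abelian E] [HasExt.{w} E] [HasInjectiveResolutions A]
  (L : A ⥤ E) [L.Additive] [PreservesFiniteLimits L] [PreservesFiniteColimits L]
  {L' : B ⥤ E} {G : E ⥤ B} (adj : L' ⊣ G) [L'.Additive] (Θ : A ⥤ B) (β : Θ ≅ L ⋙ G)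

include β adj in
theorem exists_lift {F : A} (J : InjectiveResolution F) (W : B) (n : ℕ) (hn : 1 ≤ n)
    (ha : ∀ (I : A) [Injective I] (p : ℕ), 1 ≤ p → Subsingleton (Ext.{w} (L'.obj W) (L.obj I) p))
    (hΩ : Subsingleton (Ext.{w} (L'.obj W) (L.obj F) n))
    (s : W ⟶ Θ.obj (J.cocomplex.X n)) (hs : s ≫ Θ.map (J.cocomplex.d n (n + 1)) = 0) :
    ∃ t : W ⟶ Θ.obj (J.cocomplex.X (n - 1)), t ≫ Θ.map (J.cocomplex.d (n - 1) n) = s := by
  let C := (L.mapHomologicalComplex (ComplexShape.up ℕ)).obj J.cocomplex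
  have hex : ∀ q, 1 ≤ q → q ≤ n → IsZero (C.homology q) := fun q hq _ => by
    obtain ⟨q, rfl⟩ : ∃ k, q = k + 1 := ⟨q - 1, by omega⟩
    exact isZero_homology_map L _ _ (J.cocomplex_exactAt_succ q)
  have ha' : ∀ q p, 1 ≤ p → Subsingleton (Ext.{w} (L'.obj W) (C.X q) p) := fun q p hp =>
    ha (J.cocomplex.X q) p hp
  have hZ : Subsingleton (Ext.{w} (L'.obj W) (C.cycles 0) n) := by
    obtain ⟨e, _⟩ := AbsDer.exists_cyc0_map L J
    exact AbsDer.subsingleton_ext_of_iso e n hΩ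
  have hs' : (s ≫ β.hom.app _) ≫ (L ⋙ G).map (J.cocomplex.d n (n + 1)) = 0 := by
    rw [Category.assoc, ← β.hom.naturality, ← Category.assoc, hs, zero_comp]
  obtain ⟨t, ht⟩ := ExactHom.main C (L'.obj W) n hn hex ha' hZ
    ((adj.homEquiv W (L.obj (J.cocomplex.X n))).symm (s ≫ β.hom.app _))
    (((adj.homEquiv_naturality_right_symm (s ≫ β.hom.app _) (L.map (J.cocomplex.d n (n + 1)))).symm.trans
      (congrArg _ hs')).trans (homEquiv_symm_zero adj _ _))
  let t' : W ⟶ (L ⋙ G).obj (J.cocomplex.X (n - 1)) := adj.homEquiv W (L.obj (J.cocomplex.X (n - 1))) t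
  refine ⟨t' ≫ β.inv.app _, ?_⟩
  have h3 := congrArg (adj.homEquiv W (L.obj (J.cocomplex.X n))) ht
  rw [Equiv.apply_symm_apply] at h3
  have h5 : t' ≫ (L ⋙ G).map (J.cocomplex.d (n - 1) n) = s ≫ β.hom.app (J.cocomplex.X n) := by
    rw [← h3]
    exact (adj.homEquiv_naturality_right t (L.map (J.cocomplex.d (n - 1) n))).symm
  have h6 : β.inv.app (J.cocomplex.X (n - 1)) ≫ Θ.map (J.cocomplex.d (n - 1) n) =
      (L ⋙ G).map (J.cocomplex.d (n - 1) n) ≫ β.inv.app (J.cocomplex.X n) :=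
    (β.inv.naturality (J.cocomplex.d (n - 1) n)).symm
  calc (t' ≫ β.inv.app _) ≫ Θ.map (J.cocomplex.d (n - 1) n)
      = t' ≫ β.inv.app _ ≫ Θ.map (J.cocomplex.d (n - 1) n) := Category.assoc _ _ _
    _ = t' ≫ (L ⋙ G).map (J.cocomplex.d (n - 1) n) ≫ β.inv.app (J.cocomplex.X n) := congrArg _ h6
    _ = (t' ≫ (L ⋙ G).map (J.cocomplex.d (n - 1) n)) ≫ β.inv.app (J.cocomplex.X n) :=
        (Category.assoc _ _ _).symm
    _ = (s ≫ β.hom.app _) ≫ β.inv.app (J.cocomplex.X n) := congrArg (fun z => z ≫ _) h5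
    _ = s := by rw [Category.assoc, β.hom_inv_id_app]; exact Category.comp_id s

end Lift

section CompExact

variable {A : Type u} [Category.{v} A] [Abelian A] {B : Type u'} [Category.{v'} B] [Abelian B]
  {E : Type u''} [Category.{v''} E] [Abelian E] [HasInjectiveResolutions A]
  (Θ : A ⥤ B) [Θ.Additive] (Φ : B ⥤ E) [Φ.Additive] [PreservesFiniteLimits Φ]
  [PreservesFiniteColimits Φ]

/-- Derived functors of `Θ ⋙ Φ` for `Φ` exact, with the action of an endomorphism of `Θ`. -/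
theorem exists_compExact (θ : Θ ⟶ Θ) (F : A) (n : ℕ) :
    ∃ e : ((Θ ⋙ Φ).rightDerived n).obj F ≅ Φ.obj ((Θ.rightDerived n).obj F),
      (NatTrans.rightDerived (Functor.whiskerRight θ Φ) n).app F ≫ e.hom =
        e.hom ≫ Φ.map ((NatTrans.rightDerived θ n).app F) := by
  let J := injectiveResolution F
  have h1 : Φ.PreservesHomology := inferInstance
  let C := (Θ.mapHomologicalComplex (ComplexShape.up ℕ)).obj J.cocomplex
  let φ : C ⟶ C := (NatTrans.mapHomologicalComplex θ (ComplexShape.up ℕ)).app J.cocomplex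
  let m : hom (Θ ⋙ Φ) F n ≅ Φ.obj (hom Θ F n) := (C.sc n).mapHomologyIso Φ
  have h2 : mapH (Functor.whiskerRight θ Φ) F n ≫ m.hom = m.hom ≫ Φ.map (mapH θ F n) :=
    ShortComplex.mapHomologyIso_hom_naturality ((shortComplexFunctor B (ComplexShape.up ℕ) n).map φ) Φ
  refine ⟨isoH (Θ ⋙ Φ) F n ≪≫ m ≪≫ Φ.mapIso (isoH Θ F n).symm, ?_⟩
  rw [app_eq, app_eq]
  have h4 : Φ.map (isoH Θ F n).inv ≫ Φ.map (isoH Θ F n).hom = 𝟙 _ := by
    rw [← CategoryTheory.Functor.map_comp, Iso.inv_hom_id, CategoryTheory.Functor.map_id]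
  simp only [Iso.trans_hom, Functor.mapIso_hom, Iso.symm_hom, Category.assoc,
    CategoryTheory.Functor.map_comp, Iso.inv_hom_id_assoc]
  rw [reassoc_of% h4, reassoc_of% h2]

end CompExact

end Groth.Agent.Vancyc.H693.AbsDer2
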