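import Groth.Agent.Vancyc.H693.Triv

/-!
# Conversion of `Triv` to the statements of the prelude
-/

set_option autoImplicit false
universe u
open CategoryTheory CategoryTheory.Limits AlgebraicGeometry Opposite IsLocalRing

namespace Groth.Agent.Vancyc.H693.Tr

variable {R K Ω : Type u} [CommRing R] [IsLocalRing R] [Field K] [Algebra R K] [Field Ω] [Algebra K Ω]
    [Algebra R Ω] [IsScalarTower R K Ω]

theorem triv_iff {X : Scheme.{u}} (f : X ⟶ Spec (CommRingCat.of R)) (σ : Ω ≃ₐ[K] Ω) (n : ℕ)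
    (F : EtCoh.Ab X) {Ω' : Type u} [Field Ω'] [IsSepClosed Ω']
    (z : Spec (CommRingCat.of Ω') ⟶ X) : Triv f σ n F z ↔
      (EtCoh.stalk z).map ((NatTrans.rightDerived (VanCyc.thetaEnd f σ) n).app F) = 𝟙 _ := Iff.rfl

theorem stalk_psiGal_eq_id {X : Scheme.{u}} (f : X ⟶ Spec (CommRingCat.of R)) (σ : Ω ≃ₐ[K] Ω) (n : ℕ)
    (F : EtCoh.Ab X) {Ω' : Type u} [Field Ω'] [IsSepClosed Ω']
    (ξ : Spec (CommRingCat.of Ω') ⟶ VanCyc.spFib R f) (h : Triv f σ n F (ξ ≫ VanCyc.icl R f)) :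
    (EtCoh.stalk ξ).map (VanCyc.psiGal f σ n F) = 𝟙 _ :=
  Inst.map_eq_id_of_iso (Etbase.StalkPull.stalkPullIso (VanCyc.icl R f) ξ).symm _
    ((triv_iff f σ n F _).1 h)

end Groth.Agent.Vancyc.H693.Tr
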