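import Mathlib.Algebra.Homology.DerivedCategory.Ext.ExactSequences
import Mathlib.Algebra.Homology.ShortComplex.HomologicalComplex
import Mathlib.Algebra.Homology.ShortComplex.Abelian
import Mathlib.Algebra.Homology.HomologicalComplexAbelian

/-!
# Dimension shifting with an endomorphism

`C` a cochain complex with an endomorphism `φ`, `w` an object such that the terms of `C` are
`Ext(w, -)`-acyclic and the homology objects in degrees `1 ≤ q < n` are `Ext(w, -)`-acyclic.  If
`Hom(w, C)` is exact in degree `n` and `φ` acts trivially on `Ext^{n+1}(w, Z^0)`, then it acts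
trivially on `Hom(w, H^n(C))`.
-/

set_option autoImplicit false

universe w v u

open CategoryTheory CategoryTheory.Limits CategoryTheory.Abelian HomologicalComplex

namespace Groth.Agent.Vancyc.H693.Devissage

variable {A : Type u} [Category.{v} A] [Abelian A] [HasExt.{w} A]

/-- `f` acts as the identity on `Ext^p(W, X)`. -/
def ActsId (W : A) {X : A} (f : X ⟶ X) (p : ℕ) : Prop :=
  ∀ x : Ext.{w} W X p, x.comp (Ext.mk₀ f) (add_zero p) = x

section SES

variable {S : ShortComplex A} (hS : S.ShortExact) (φ : S ⟶ S) (W : A)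

include hS in
/-- If `Ext^{p+1}(W, X₁)` carries the trivial action and `Ext^p(W, X₂) → Ext^p(W, X₃)` is zero then
`Ext^p(W, X₃)` carries the trivial action. -/
theorem actsId_third (p : ℕ) (h : ActsId.{w} W φ.τ₁ (p + 1))
    (h2 : ∀ x : Ext.{w} W S.X₂ p, x.comp (Ext.mk₀ S.g) (add_zero p) = 0) :
    ActsId.{w} W φ.τ₃ p := by
  intro x
  have h3 : (x.comp (Ext.mk₀ φ.τ₃) (add_zero p) - x).comp hS.extClass (rfl : p + 1 = p + 1) = 0 := by
    rw [sub_eq_add_neg, Ext.add_comp, Ext.neg_comp, Ext.comp_assoc _ _ _ (add_zero p) (zero_add 1) (by omega),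
      ← ShortComplex.ShortExact.extClass_naturality hS hS φ,
      ← Ext.comp_assoc _ _ _ (rfl : p + 1 = p + 1) (add_zero 1) (by omega), h, add_neg_cancel]
  obtain ⟨y, hy⟩ := Ext.covariant_sequence_exact₃ W hS _ rfl h3
  rw [h2] at hy
  exact (sub_eq_zero.1 hy.symm)

include hS in
/-- If `Ext^p(W, X₁)` carries the trivial action and `Ext^p(W, X₃) = 0` then `Ext^p(W, X₂)` carries the
trivial action. -/
theorem actsId_mid (p : ℕ) (h : ActsId.{w} W φ.τ₁ p) (h3 : Subsingleton (Ext.{w} W S.X₃ p)) :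
    ActsId.{w} W φ.τ₂ p := by
  intro x
  obtain ⟨y, hy⟩ := Ext.covariant_sequence_exact₂ W hS x (Subsingleton.elim _ _)
  rw [← hy, Ext.comp_assoc _ _ _ (add_zero p) (add_zero 0) (by omega), Ext.mk₀_comp_mk₀, ← φ.comm₁₂,
    ← Ext.mk₀_comp_mk₀, ← Ext.comp_assoc _ _ _ (add_zero p) (add_zero 0) (by omega), h]

end SES

section Complex

variable (C : CochainComplex A ℕ)

/-- boundaries -/
noncomputable abbrev B (q : ℕ) : A := kernel (C.homologyπ q)

/-- `0 → B^q → Z^q → H^q → 0` -/
noncomputable abbrev S2 (q : ℕ) : ShortComplex A :=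
  ShortComplex.mk (kernel.ι (C.homologyπ q)) (C.homologyπ q) (kernel.condition _)

theorem S2_shortExact (q : ℕ) : (S2 C q).ShortExact where
  exact := ShortComplex.exact_of_f_is_kernel _ (kernelIsKernel _)
  mono_f := inferInstanceAs (Mono (kernel.ι (C.homologyπ q)))
  epi_g := inferInstanceAs (Epi (C.homologyπ q))

/-- `X^q → B^{q+1}` -/
noncomputable def toB (q : ℕ) : C.X q ⟶ B C (q + 1) :=
  kernel.lift _ (C.toCycles q (q + 1)) (C.toCycles_comp_homologyπ q (q + 1))

@[reassoc (attr := simp)]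
theorem toB_ι (q : ℕ) : toB C q ≫ kernel.ι _ = C.toCycles q (q + 1) := kernel.lift_ι _ _ _

instance epi_toB (q : ℕ) : Epi (toB C q) := by
  have h : (ShortComplex.mk (C.toCycles q (q + 1)) (C.homologyπ (q + 1))
      (C.toCycles_comp_homologyπ q (q + 1))).Exact :=
    ShortComplex.exact_of_g_is_cokernel _ (C.homologyIsCokernel q (q + 1) (by simp))
  exact (ShortComplex.exact_iff_epi_kernel_lift _).1 h

/-- `0 → Z^q → X^q → B^{q+1} → 0` -/
noncomputable abbrev S1 (q : ℕ) : ShortComplex A :=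
  ShortComplex.mk (C.iCycles q) (toB C q) (by
    rw [← cancel_mono (kernel.ι (C.homologyπ (q + 1))), Category.assoc, toB_ι,
      ← cancel_mono (C.iCycles (q + 1)), Category.assoc, toCycles_i, iCycles_d, zero_comp, zero_comp])

theorem S1_shortExact (q : ℕ) : (S1 C q).ShortExact where
  exact := by
    refine ShortComplex.exact_of_f_is_kernel _ ?_
    refine KernelFork.IsLimit.ofι _ _ (fun {W} k hk => C.liftCycles k (q + 1) (by simp) ?_)
      (fun {W} k hk => C.liftCycles_i _ _ _ _) (fun {W} k hk b hb => ?_)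
    · have h3 : C.d q (q + 1) = toB C q ≫ kernel.ι _ ≫ C.iCycles (q + 1) := by
        rw [toB_ι_assoc, toCycles_i]
      rw [h3, ← Category.assoc]
      exact (congrArg (fun t => t ≫ kernel.ι (C.homologyπ (q + 1)) ≫ C.iCycles (q + 1)) hk).trans zero_comp
    · rw [← cancel_mono (C.iCycles q)]
      exact hb.trans (C.liftCycles_i _ _ _ _).symm
  mono_f := inferInstanceAs (Mono (C.iCycles q))
  epi_g := epi_toB C q

variable {C} (φ : C ⟶ C)

/-- the map on boundaries -/
noncomputable def mapB (q : ℕ) : B C q ⟶ B C q :=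
  kernel.map _ _ (cyclesMap φ q) (homologyMap φ q) (homologyπ_naturality φ q)

noncomputable def mapS2 (q : ℕ) : S2 C q ⟶ S2 C q where
  τ₁ := mapB φ q
  τ₂ := cyclesMap φ q
  τ₃ := homologyMap φ q
  comm₁₂ := by simp [S2, mapB]
  comm₂₃ := (homologyπ_naturality φ q).symm

noncomputable def mapS1 (q : ℕ) : S1 C q ⟶ S1 C q where
  τ₁ := cyclesMap φ q
  τ₂ := φ.f q
  τ₃ := mapB φ (q + 1)
  comm₁₂ := by simp [S1]
  comm₂₃ := by
    dsimp [S1]
    rw [← cancel_mono (kernel.ι (C.homologyπ (q + 1))), ← cancel_mono (C.iCycles (q + 1))]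
    simp [mapB]

variable (W : A)

/-- **Dimension shifting with an endomorphism.** -/
theorem main (n : ℕ) (ha : ∀ q p, 1 ≤ p → Subsingleton (Ext.{w} W (C.X q) p))
    (hb : ∀ p q, 1 ≤ p → 1 ≤ q → q < n → Subsingleton (Ext.{w} W (C.homology q) p))
    (hc : ∀ s : W ⟶ C.X (n), s ≫ C.d (n) (n + 1) = 0 → ∃ t : W ⟶ C.X (n - 1), t ≫ C.d (n - 1) n = s)
    (hn : 1 ≤ n)
    (hd : ActsId.{w} W (cyclesMap φ 0) (n + 1)) (s : W ⟶ C.homology n) :
    s ≫ homologyMap φ n = s := by
  obtain ⟨n, rfl⟩ : ∃ k, n = k + 1 := ⟨n - 1, by omega⟩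
  rw [Nat.add_sub_cancel] at hc
  -- `φ` acts trivially on `Ext^{n+2-k}(W, Z^k)` for `k ≤ n`
  have key : ∀ k, k ≤ n → ActsId.{w} W (cyclesMap φ k) (n + 2 - k) := by
    intro k
    induction k with
    | zero => intro _; exact hd
    | succ k ih =>
      intro hk
      have h1 := ih (by omega)
      have h2 : n + 2 - k = (n + 2 - (k + 1)) + 1 := by omega
      rw [h2] at h1
      have h3 : ActsId.{w} W (mapB φ (k + 1)) (n + 2 - (k + 1)) :=
        actsId_third (S1_shortExact C k) (mapS1 φ k) W _ h1 (fun x => by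
          have := ha k (n + 2 - (k + 1)) (by omega)
          have hx : x = 0 := Subsingleton.elim (α := Ext.{w} W (C.X k) (n + 2 - (k + 1))) _ _
          rw [hx, Ext.zero_comp])
      exact actsId_mid (S2_shortExact C (k + 1)) (mapS2 φ (k + 1)) W _ h3
        (hb _ _ (by omega) (by omega) (by omega))
  have h1 := key n le_rfl
  have h2 : n + 2 - n = 1 + 1 := by omega
  rw [h2] at h1
  have h3 : ActsId.{w} W (mapB φ (n + 1)) 1 :=
    actsId_third (S1_shortExact C n) (mapS1 φ n) W _ h1 (fun x => by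
      have := ha n 1 le_rfl
      have hx : x = 0 := Subsingleton.elim _ _
      rw [hx, Ext.zero_comp])
  have h4 : ActsId.{w} W (homologyMap φ (n + 1)) 0 := by
    refine actsId_third (S2_shortExact C (n + 1)) (mapS2 φ (n + 1)) W _ h3 fun x => ?_
    obtain ⟨x, rfl⟩ : ∃ y : W ⟶ C.cycles (n + 1), x = Ext.mk₀ y :=
      ⟨_, ((Ext.homEquiv₀ (X := W) (Y := C.cycles (n + 1))).symm_apply_apply x).symm⟩
    obtain ⟨t, ht⟩ := hc (x ≫ C.iCycles (n + 1)) (by rw [Category.assoc, iCycles_d, comp_zero])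
    have h5 : x = t ≫ C.toCycles n (n + 1) := by
      rw [← cancel_mono (C.iCycles (n + 1)), Category.assoc, toCycles_i, ht]
    have h6 : x ≫ C.homologyπ (n + 1) = 0 := by
      rw [h5, Category.assoc, toCycles_comp_homologyπ, comp_zero]
    change (Ext.mk₀ x).comp (Ext.mk₀ (C.homologyπ (n + 1))) (add_zero 0) = 0
    rw [Ext.mk₀_comp_mk₀, h6, Ext.mk₀_zero]
  have h7 := h4 (Ext.mk₀ s)
  rw [Ext.mk₀_comp_mk₀] at h7
  exact (Ext.homEquiv₀ (X := W)).symm.injective h7

end Complex

end Groth.Agent.Vancyc.H693.Devissage
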