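import Groth.Agent.Vancyc.H693.Devissage

/-!
# Exactness of `Hom(W, C)` from the vanishing of `Ext^n(W, Z^0)`
-/

set_option autoImplicit false

universe w v u

open CategoryTheory CategoryTheory.Limits CategoryTheory.Abelian HomologicalComplex

namespace Groth.Agent.Vancyc.H693.ExactHom

open Groth.Agent.Vancyc.H693.Devissage

variable {A : Type u} [Category.{v} A] [Abelian A] [HasExt.{w} A] (C : CochainComplex A ℕ) (W : A)

/-- If `C` is exact in degrees `1 ≤ q ≤ n`, its terms are `Ext(W, -)`-acyclic and `Ext^n(W, Z^0) = 0` then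
`Hom(W, C)` is exact in degree `n`. -/
theorem main (n : ℕ) (hn : 1 ≤ n) (hex : ∀ q, 1 ≤ q → q ≤ n → IsZero (C.homology q))
    (ha : ∀ q p, 1 ≤ p → Subsingleton (Ext.{w} W (C.X q) p))
    (hZ : Subsingleton (Ext.{w} W (C.cycles 0) n)) (s : W ⟶ C.X n) (hs : s ≫ C.d n (n + 1) = 0) :
    ∃ t : W ⟶ C.X (n - 1), t ≫ C.d (n - 1) n = s := by
  obtain ⟨n, rfl⟩ : ∃ k, n = k + 1 := ⟨n - 1, by omega⟩
  rw [Nat.add_sub_cancel]
  have hB : ∀ q, 1 ≤ q → q ≤ n + 1 → IsIso (kernel.ι (C.homologyπ q)) := fun q h1 h2 => by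
    have h3 : C.homologyπ q = 0 := (hex q h1 h2).eq_of_tgt _ _
    exact KernelFork.IsLimit.isIso_ι (KernelFork.ofι _ (kernel.condition (C.homologyπ q)))
      (kernelIsKernel _) h3
  have key : ∀ k, k ≤ n → Subsingleton (Ext.{w} W (C.cycles k) (n + 1 - k)) := by
    intro k
    induction k with
    | zero => intro _; exact hZ
    | succ k ih =>
      intro hk
      have h1 := ih (by omega)
      have h2 : n + 1 - k = (n + 1 - (k + 1)) + 1 := by omega
      rw [h2] at h1
      have := hB (k + 1) (by omega) (by omega)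
      refine subsingleton_of_forall_eq 0 fun x => ?_
      let y : Ext.{w} W (B C (k + 1)) (n + 1 - (k + 1)) :=
        x.comp (Ext.mk₀ (inv (kernel.ι (C.homologyπ (k + 1))))) (add_zero _)
      obtain ⟨z, hz⟩ := Ext.covariant_sequence_exact₃ W (S1_shortExact C k) y rfl (Subsingleton.elim _ _)
      have hz0 : z = 0 := by
        have h3 := ha k (n + 1 - (k + 1)) (by omega)
        exact Subsingleton.elim (α := Ext.{w} W (C.X k) (n + 1 - (k + 1))) _ _
      rw [hz0, Ext.zero_comp] at hz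
      have h4 : x = y.comp (Ext.mk₀ (kernel.ι (C.homologyπ (k + 1)))) (add_zero _) := by
        dsimp only [y]
        rw [Ext.comp_assoc_of_third_deg_zero, Ext.mk₀_comp_mk₀, IsIso.inv_hom_id, Ext.comp_mk₀_id]
      rw [h4, ← hz, Ext.zero_comp]
  have h1 := key n le_rfl
  have h2 : n + 1 - n = 1 := by omega
  rw [h2] at h1
  have := hB (n + 1) (by omega) le_rfl
  let s' : W ⟶ C.cycles (n + 1) := C.liftCycles s (n + 2) (by simp) hs
  have hs' : s' ≫ C.iCycles (n + 1) = s := C.liftCycles_i _ _ _ _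
  let y : W ⟶ B C (n + 1) := s' ≫ inv (kernel.ι (C.homologyπ (n + 1)))
  obtain ⟨z, hz⟩ := Ext.covariant_sequence_exact₃ W (S1_shortExact C n) (Ext.mk₀ y) (zero_add 1)
    (Subsingleton.elim _ _)
  obtain ⟨t, rfl⟩ : ∃ t : W ⟶ C.X n, z = Ext.mk₀ t :=
    ⟨_, ((Ext.homEquiv₀ (X := W) (Y := C.X n)).symm_apply_apply z).symm⟩
  have h5 : t ≫ toB C n = y := by
    have h6 : Ext.mk₀ (t ≫ toB C n) = Ext.mk₀ y := by
      rw [← hz]
      exact (Ext.mk₀_comp_mk₀ t (toB C n)).symm
    exact (Ext.homEquiv₀ (X := W)).symm.injective h6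
  refine ⟨t, ?_⟩
  rw [← toCycles_i, ← hs', ← toB_ι, ← Category.assoc, ← Category.assoc, h5]
  simp [y]

end Groth.Agent.Vancyc.H693.ExactHom
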