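import Groth.Agent.Vancyc.H693.GeoAlg
import Groth.Agent.Lefpen.H713.HypProj
import Groth.Agent.CurvesA.ClosedPtSep
import Mathlib.AlgebraicGeometry.Morphisms.Smooth
import Mathlib.AlgebraicGeometry.ResidueField

/-!
# The family `V_+(∑ x_i T_i - b T_last) ⊂ P^{m+1}` over `R[x_0, …, x_m]`
-/

set_option autoImplicit false

open CategoryTheory CategoryTheory.Limits AlgebraicGeometry MvPolynomial
open Groth.Agent.Sga5.ProjChart Groth.Agent.Lefpen.H713.HypProj Groth.Agent.Vancyc.H693.GeoAlg

universe u

namespace Groth.Agent.Vancyc.H693.Geo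

variable (R : Type u) [CommRing R] (m : ℕ) (b : R)

/-- the base `A^{m+1}_R` -/
noncomputable abbrev V : Scheme.{u} := Spec (CommRingCat.of (B R m))

/-- its structure map -/
noncomputable abbrev v : V R m ⟶ Spec (CommRingCat.of R) :=
  Spec.map (CommRingCat.ofHom (algebraMap R (B R m)))

/-- the family -/
noncomputable abbrev X : Scheme.{u} := Hyp (lin R m b)

/-- its structure map -/
noncomputable abbrev π : X R m b ⟶ V R m := toSpec (lin R m b)

theorem smooth_chartH (i : Fin (m + 1)) : Smooth (chartH (lin R m b) i.castSucc ≫ π R m b ≫ v R m) := by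
  rw [chartH_toSpec_assoc, ← Spec.map_comp, ← CommRingCat.ofHom_comp]
  have h1 : (algebraMap (B R m) (ChR (lin R m b) i.castSucc)).comp (algebraMap R (B R m)) =
      algebraMap R (ChR (lin R m b) i.castSucc) := rfl
  rw [h1]
  exact (HasRingHomProperty.Spec_iff (P := @Smooth)).2 (RingHom.smooth_algebraMap.2 (smooth_chart R m b i))

theorem smooth_opensRange (i : Fin (m + 1)) :
    Smooth ((chartH (lin R m b) i.castSucc).opensRange.ι ≫ π R m b ≫ v R m) := by
  have h1 := smooth_chartH R m b i
  have h2 : (chartH (lin R m b) i.castSucc).isoOpensRange.hom ≫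
      (chartH (lin R m b) i.castSucc).opensRange.ι = chartH (lin R m b) i.castSucc :=
    Scheme.Hom.isoOpensRange_hom_ι _
  have h3 : (chartH (lin R m b) i.castSucc).opensRange.ι ≫ π R m b ≫ v R m =
      (chartH (lin R m b) i.castSucc).isoOpensRange.inv ≫
        chartH (lin R m b) i.castSucc ≫ π R m b ≫ v R m := by
    rw [Iso.eq_inv_comp, ← Category.assoc, h2]
  rw [h3]
  infer_instance

section Fibre

variable {κ : Type u} [Field κ] (g : B R m →+* κ) (hg : ∀ i, g (MvPolynomial.X i) = 0)
  (hb : g (C b) = 0)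

include hb in
theorem eval_dehom_last :
    eval₂Hom g (fun _ => (0 : κ)) (dehom (m + 1) (B R m) (Fin.last (m + 1)) (lin R m b).1) = 0 := by
  rw [dehom_lin, map_sub, map_sum, D_self, mul_one, coe_eval₂Hom, eval₂_C, hb, sub_zero]
  refine Finset.sum_eq_zero fun i _ => ?_
  have h1 : D R m (Fin.last (m + 1)) i.castSucc = MvPolynomial.X i := by
    rw [← Fin.succAbove_last_apply, D_succAbove]
  rw [h1, ← coe_eval₂Hom, map_mul, coe_eval₂Hom, eval₂_X, mul_zero]

/-- the point `x = 0`, `T = [0 : … : 0 : 1]` -/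
noncomputable def mu : ChR (lin R m b) (Fin.last (m + 1)) →+* κ :=
  Ideal.Quotient.lift _ (eval₂Hom g (fun _ => (0 : κ))) (by
    intro a ha
    obtain ⟨c, rfl⟩ := Ideal.mem_span_singleton.1 ha
    rw [map_mul, eval_dehom_last R m b g hb, zero_mul])

theorem mu_C (a : B R m) : mu R m b g hb (Ideal.Quotient.mk _ (C a)) = g a := by
  rw [mu, Ideal.Quotient.lift_mk, coe_eval₂Hom, eval₂_C]

theorem mu_X (i : Fin (m + 1)) : mu R m b g hb (Ideal.Quotient.mk _ (MvPolynomial.X i)) = 0 := by
  rw [mu, Ideal.Quotient.lift_mk, coe_eval₂Hom, eval₂_X]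

theorem mu_comp : (mu R m b g hb).comp (algebraMap (B R m) (ChR (lin R m b) (Fin.last (m + 1)))) = g := by
  exact RingHom.ext fun a => mu_C R m b g hb a

/-- The point of the last chart. -/
noncomputable def muPt : Spec (CommRingCat.of κ) ⟶ X R m b :=
  Spec.map (CommRingCat.ofHom (mu R m b g hb)) ≫ chartH (lin R m b) (Fin.last (m + 1))

theorem muPt_π : muPt R m b g hb ≫ π R m b = Spec.map (CommRingCat.ofHom g) := by
  rw [muPt, Category.assoc, chartH_toSpec, ← Spec.map_comp, ← CommRingCat.ofHom_comp, mu_comp]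

include hg in
/-- A field-valued point of the last chart at which all `T_i` vanish, over `g`. -/
theorem eq_comp_mu {L : Type u} [Field L] (h : κ →+* L)
    (lam : ChR (lin R m b) (Fin.last (m + 1)) →+* L)
    (h1 : lam.comp (algebraMap (B R m) (ChR (lin R m b) (Fin.last (m + 1)))) = h.comp g)
    (h2 : ∀ i : Fin (m + 1), lam (Ideal.Quotient.mk _ (MvPolynomial.X i)) = 0) :
    lam = h.comp (mu R m b g hb) := by
  apply Ideal.Quotient.ringHom_ext
  apply MvPolynomial.ringHom_ext
  · intro a
    have h3 := DFunLike.congr_fun h1 a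
    refine Eq.trans h3 ?_
    exact congrArg h (mu_C R m b g hb a).symm
  · intro i
    refine Eq.trans (h2 i) ?_
    exact (map_zero h).symm.trans (congrArg h (mu_X R m b g hb i).symm)

variable {T₀ : Scheme.{u}} (a : T₀ ⟶ X R m b) (c : T₀ ⟶ Spec (CommRingCat.of κ))
  (sq : IsPullback a c (π R m b) (Spec.map (CommRingCat.ofHom g)))

/-- The section of the fibre given by the singular point. -/
noncomputable def sec : Spec (CommRingCat.of κ) ⟶ T₀ :=
  sq.lift (muPt R m b g hb) (𝟙 _) (by rw [muPt_π, Category.id_comp])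

theorem sec_a : sec R m b g hb a c sq ≫ a = muPt R m b g hb := sq.lift_fst _ _ _

theorem sec_c : sec R m b g hb a c sq ≫ c = 𝟙 _ := sq.lift_snd _ _ _

include hg in
/-- Every point of the fibre lies in a smooth chart or is the singular point. -/
theorem mem_chart_or_eq (x : T₀) : (∃ i : Fin (m + 1), a x ∈ (chartH (lin R m b) i.castSucc).opensRange) ∨
    x = sec R m b g hb a c sq default := by
  by_cases hx : ∃ i : Fin (m + 1), a x ∈ (chartH (lin R m b) i.castSucc).opensRange
  · exact Or.inl hx
  right
  push Not at hx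
  obtain ⟨j, hj⟩ := exists_mem_chartH (lin R m b) (a x)
  have hj' : a x ∈ (chartH (lin R m b) (Fin.last (m + 1))).opensRange := by
    induction j using Fin.lastCases with
    | last => exact hj
    | cast i => exact absurd hj (hx i)
  obtain ⟨y, hy⟩ := hj'
  have hy' : ∀ i : Fin (m + 1), (Ideal.Quotient.mk _ (MvPolynomial.X i) :
      ChR (lin R m b) (Fin.last (m + 1))) ∈ y.asIdeal := by
    intro i
    by_contra h
    refine hx i ?_
    have h1 := (mem_chartH_iff (lin R m b) (Fin.last (m + 1)) i.castSucc y).2 (by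
      have h2 : dehom (m + 1) (B R m) (Fin.last (m + 1)) (MvPolynomial.X i.castSucc) =
          MvPolynomial.X i := by
        rw [← Fin.succAbove_last_apply, dehom_X]
      rw [h2]
      exact h)
    rw [← hy]
    exact h1
  let z : Spec (T₀.residueField x) := IsLocalRing.closedPoint (T₀.residueField x)
  let ι := T₀.fromSpecResidueField x
  have hι : ι z = x := Scheme.fromSpecResidueField_apply x z
  have hrange : Set.range (ι ≫ a) ⊆ Set.range (chartH (lin R m b) (Fin.last (m + 1))) := by
    rintro _ ⟨w, rfl⟩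
    refine ⟨y, ?_⟩
    rw [hy, Scheme.Hom.comp_apply]
    congr 1
    exact (Scheme.fromSpecResidueField_apply x w).symm
  let l : Spec (T₀.residueField x) ⟶ Spec (CommRingCat.of (ChR (lin R m b) (Fin.last (m + 1)))) :=
    IsOpenImmersion.lift (chartH (lin R m b) (Fin.last (m + 1))) (ι ≫ a) hrange
  have hl : l ≫ chartH (lin R m b) (Fin.last (m + 1)) = ι ≫ a := IsOpenImmersion.lift_fac _ _ _
  let lam : CommRingCat.of (ChR (lin R m b) (Fin.last (m + 1))) ⟶ T₀.residueField x := Spec.preimage l
  have hlam : Spec.map lam = l := Spec.map_preimage l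
  let h : CommRingCat.of κ ⟶ T₀.residueField x := Spec.preimage (ι ≫ c)
  have hh : Spec.map h = ι ≫ c := Spec.map_preimage (ι ≫ c)
  have hly : l z = y := by
    apply (chartH (lin R m b) (Fin.last (m + 1))).isOpenEmbedding.injective
    rw [← Scheme.Hom.comp_apply, hl, Scheme.Hom.comp_apply, hι, hy]
  have h2 : ∀ i : Fin (m + 1), lam.hom (Ideal.Quotient.mk _ (MvPolynomial.X i)) = 0 := by
    intro i
    have h3 := hy' i
    rw [← hly, ← hlam] at h3
    have h4 : lam.hom (Ideal.Quotient.mk _ (MvPolynomial.X i)) ∈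
      IsLocalRing.maximalIdeal (T₀.residueField x) := h3
    rwa [IsLocalRing.maximalIdeal_eq_bot, Ideal.mem_bot] at h4
  have h1 : lam.hom.comp (algebraMap (B R m) (ChR (lin R m b) (Fin.last (m + 1)))) = h.hom.comp g := by
    have h5 : Spec.map (CommRingCat.ofHom (algebraMap (B R m) (ChR (lin R m b) (Fin.last (m + 1)))) ≫ lam) =
        Spec.map (CommRingCat.ofHom g ≫ h) := by
      rw [Spec.map_comp, Spec.map_comp, hlam, hh, ← chartH_toSpec, ← Category.assoc, hl, Category.assoc,
        Category.assoc]
      exact congrArg (fun t => ι ≫ t) sq.w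
    exact congrArg CommRingCat.Hom.hom (Spec.map_injective h5)
  have h6 := eq_comp_mu R m b g hg hb h.hom lam.hom h1 h2
  have h7 : ι = (ι ≫ c) ≫ sec R m b g hb a c sq := by
    apply sq.hom_ext
    · rw [Category.assoc, sec_a, muPt, ← hl, ← hlam, ← hh, ← Category.assoc, ← Spec.map_comp]
      congr 2
      exact CommRingCat.hom_ext h6
    · rw [Category.assoc, sec_c, Category.comp_id]
  have h8 : x = sec R m b g hb a c sq ((ι ≫ c) z) := by
    rw [← Scheme.Hom.comp_apply, ← h7, hι]
  rw [h8]
  congr 1
  exact Subsingleton.elim (α := PrimeSpectrum κ) _ _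

theorem isClosed_sec : IsClosed ({sec R m b g hb a c sq default} : Set T₀) := by
  have h1 : Subsingleton (Spec (CommRingCat.of κ)) := inferInstanceAs (Subsingleton (PrimeSpectrum κ))
  have h2 : IsClosedImmersion (sec R m b g hb a c sq) :=
    isClosedImmersion_of_comp_eq_id c (sec R m b g hb a c sq) (sec_c R m b g hb a c sq)
  have h3 : Set.range (sec R m b g hb a c sq) = {sec R m b g hb a c sq default} := by
    ext x
    constructor
    · rintro ⟨y, rfl⟩
      exact congrArg _ (Subsingleton.elim _ _)
    · rintro rfl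
      exact ⟨_, rfl⟩
  rw [← h3]
  exact (sec R m b g hb a c sq).isClosedEmbedding.isClosed_range

theorem isSepClosed_sec [IsSepClosed κ] :
    IsSepClosed (T₀.residueField (sec R m b g hb a c sq default)) := by
  have h1 : IsProper (π R m b) := inferInstance
  have h2 : IsProper c := MorphismProperty.of_isPullback sq h1
  exact Groth.Agent.CurvesA.ClosedPtSep.isSepClosed_residueField c _ (isClosed_sec R m b g hb a c sq)

end Fibre

end Groth.Agent.Vancyc.H693.Geo
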