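import Groth.Agent.Sga5.ProjChart
import Mathlib.RingTheory.Smooth.Basic
import Mathlib.RingTheory.FinitePresentation

/-!
# The linear form `∑ x_i T_i - b T_last` over `R[x]`: charts
-/

set_option autoImplicit false

open MvPolynomial Groth.Agent.Sga5.ProjChart

universe u

namespace Groth.Agent.Vancyc.H693.GeoAlg

theorem formallySmooth_of_retract {R P A : Type u} [CommRing R] [CommRing P] [CommRing A] [Algebra R P]
    [Algebra R A] [Algebra.FormallySmooth R P] (f : P →ₐ[R] A) (g : A →ₐ[R] P)
    (h : f.comp g = AlgHom.id R A) : Algebra.FormallySmooth R A := by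
  refine Algebra.FormallySmooth.of_split f ((Ideal.Quotient.mkₐ R _).comp g) ?_
  ext x
  exact DFunLike.congr_fun h x

variable (R : Type u) [CommRing R] (m : ℕ) (b : R)

/-- `R[x_0, …, x_m]` -/
abbrev B : Type u := MvPolynomial (Fin (m + 1)) R

/-- `∑ x_i T_i - b T_{m+1}` -/
noncomputable def lin : ↥(CohB1.polyGrading (m + 1) (B R m) 1) :=
  ⟨∑ i : Fin (m + 1), C (X i) * X i.castSucc - C (C b) * X (Fin.last (m + 1)), by
    refine Submodule.sub_mem _ (Submodule.sum_mem _ fun i _ => ?_) ?_
    · rw [← smul_eq_C_mul]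
      exact Submodule.smul_mem _ _ (X_mem (m + 1) (B R m) _)
    · rw [← smul_eq_C_mul]
      exact Submodule.smul_mem _ _ (X_mem (m + 1) (B R m) _)⟩

theorem lin_val : (lin R m b).1 =
    ∑ i : Fin (m + 1), C (X i) * X i.castSucc - C (C b) * X (Fin.last (m + 1)) := rfl

/-- the coordinates on the chart `T_c = 1` -/
noncomputable def D (c : Fin (m + 2)) (j : Fin (m + 2)) : MvPolynomial (Fin (m + 1)) (B R m) :=
  dehom (m + 1) (B R m) c (X j)

theorem D_self (c : Fin (m + 2)) : D R m c c = 1 := dehom_X_self (m + 1) (B R m) c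

theorem D_succAbove (c : Fin (m + 2)) (k : Fin (m + 1)) : D R m c (c.succAbove k) = X k :=
  dehom_X (m + 1) (B R m) c k

theorem dehom_lin (c : Fin (m + 2)) : dehom (m + 1) (B R m) c (lin R m b).1 =
    ∑ i : Fin (m + 1), C (X i) * D R m c i.castSucc - C (C b) * D R m c (Fin.last (m + 1)) := by
  rw [lin_val, map_sub, map_sum, map_mul, dehom_C]
  simp only [map_mul, dehom_C]
  rfl

section Chart

variable (i : Fin (m + 1))

/-- the equation of the chart `T_i = 1` without the term `x_i` -/
noncomputable def rest : MvPolynomial (Fin (m + 1)) (B R m) :=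
  ∑ j ∈ Finset.univ.erase i, C (X j) * D R m i.castSucc j.castSucc -
    C (C b) * D R m i.castSucc (Fin.last (m + 1))

theorem dehom_lin_castSucc : dehom (m + 1) (B R m) i.castSucc (lin R m b).1 =
    C (X i) + rest R m b i := by
  rw [dehom_lin, rest, ← Finset.add_sum_erase Finset.univ _ (Finset.mem_univ i), D_self, mul_one,
    add_sub_assoc]

/-- the retraction -/
noncomputable def psi : MvPolynomial (Fin (m + 1)) (B R m) →ₐ[R] MvPolynomial (Fin (m + 1)) (B R m) :=
  aevalTower (aeval (fun j => if j = i then - rest R m b i else C (X j))) X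

theorem psi_X (k : Fin (m + 1)) : psi R m b i (X k) = X k := by
  rw [psi, aevalTower_X]

theorem psi_CX (j : Fin (m + 1)) : psi R m b i (C (X j)) = if j = i then - rest R m b i else C (X j) := by
  rw [psi, aevalTower_C, aeval_X]

theorem psi_CC (r : R) : psi R m b i (C (C r)) = C (C r) := by
  rw [psi, aevalTower_C, aeval_C]
  rfl

theorem psi_D (c : Fin (m + 2)) : psi R m b i (D R m i.castSucc c) = D R m i.castSucc c := by
  rcases Fin.eq_self_or_eq_succAbove i.castSucc c with rfl | ⟨k, rfl⟩
  · rw [D_self, map_one]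
  · rw [D_succAbove, psi_X]

theorem psi_rest : psi R m b i (rest R m b i) = rest R m b i := by
  rw [rest, map_sub, map_sum, map_mul, psi_CC, psi_D]
  congr 1
  refine Finset.sum_congr rfl fun j hj => ?_
  rw [map_mul, psi_CX, if_neg (Finset.ne_of_mem_erase hj), psi_D]

theorem psi_lin : psi R m b i (dehom (m + 1) (B R m) i.castSucc (lin R m b).1) = 0 := by
  rw [dehom_lin_castSucc, map_add, psi_CX, if_pos rfl, psi_rest, neg_add_cancel]

/-- the ring of the chart `T_i = 1` is formally smooth over `R` -/
theorem formallySmooth_chart : Algebra.FormallySmooth R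
    (MvPolynomial (Fin (m + 1)) (B R m) ⧸ Ideal.span {dehom (m + 1) (B R m) i.castSucc (lin R m b).1}) := by
  have h1 : Algebra.FormallySmooth R (MvPolynomial (Fin (m + 1)) (B R m)) :=
    Algebra.FormallySmooth.comp R (B R m) _
  let I := Ideal.span {dehom (m + 1) (B R m) i.castSucc (lin R m b).1}
  refine formallySmooth_of_retract (Ideal.Quotient.mkₐ R I)
    (Ideal.Quotient.liftₐ I (psi R m b i) ?_) ?_
  · intro a ha
    obtain ⟨c, rfl⟩ := Ideal.mem_span_singleton.1 ha
    rw [map_mul, psi_lin, zero_mul]
  · refine Ideal.Quotient.algHom_ext _ ?_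
    have h2 : (Ideal.Quotient.mkₐ R I).comp (psi R m b i) = Ideal.Quotient.mkₐ R I := by
      refine MvPolynomial.algHom_ext' ?_ ?_
      · refine MvPolynomial.algHom_ext fun j => ?_
        change Ideal.Quotient.mk I (psi R m b i (C (X j))) = Ideal.Quotient.mk I (C (X j))
        rw [psi_CX]
        split_ifs with hj
        · subst hj
          rw [Ideal.Quotient.eq, ← neg_add', Ideal.neg_mem_iff]
          have h3 : rest R m b j + C (X j) = dehom (m + 1) (B R m) j.castSucc (lin R m b).1 :=
            (add_comm _ _).trans (dehom_lin_castSucc R m b j).symm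
          exact h3 ▸ Ideal.mem_span_singleton_self _
        · rfl
      · intro k
        change Ideal.Quotient.mk I (psi R m b i (X k)) = Ideal.Quotient.mk I (X k)
        rw [psi_X]
    exact h2

instance smooth_chart : Algebra.Smooth R
    (MvPolynomial (Fin (m + 1)) (B R m) ⧸ Ideal.span {dehom (m + 1) (B R m) i.castSucc (lin R m b).1}) where
  formallySmooth := formallySmooth_chart R m b i
  finitePresentation := by
    have h1 : Algebra.FinitePresentation R (MvPolynomial (Fin (m + 1)) (B R m)) :=
      Algebra.FinitePresentation.trans R (B R m) _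
    exact Algebra.FinitePresentation.quotient
      ⟨{dehom (m + 1) (B R m) i.castSucc (lin R m b).1}, by rw [Finset.coe_singleton]⟩

end Chart

end Groth.Agent.Vancyc.H693.GeoAlg
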