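import Groth.Agent.Vancyc.H693.Proper
import Groth.Agent.Vancyc.H693.Geo
import Groth.Agent.EtpbcA.Germ
import Groth.Agent.Etrest.ConstBasic

/-!
# The family `V_+(∑ x_i T_i - b T_last)` over the strict localization at the origin
-/

set_option autoImplicit false
universe u
open CategoryTheory CategoryTheory.Limits AlgebraicGeometry Opposite IsLocalRing
open scoped Groth.Agent.Etcore.EtInst
open Groth.Agent.Etcore.EtInst Groth.Agent.Etcore.HQ

namespace Groth.Agent.Vancyc.H693.Inst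

open Groth.Agent Groth.Agent.Vancyc.H679.PropLES Groth.Agent.EtpbcB.StrictLoc
open Groth.Agent.Vancyc.H693.GeoAlg Groth.Agent.Vancyc.H693.Proper
open Groth.Agent.Sga5.ProjChart Groth.Agent.Lefpen.H713.HypProj

/-- Transport of a trivial endomorphism along a natural isomorphism. -/
theorem map_eq_id_of_iso {C D : Type*} [Category C] [Category D] {G H : C ⥤ D} (e : G ≅ H) {F : C}
    (φ : F ⟶ F) (h : H.map φ = 𝟙 _) : G.map φ = 𝟙 _ := by
  have h1 := e.hom.naturality φ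
  rw [h, Category.comp_id] at h1
  rw [← cancel_mono (e.hom.app F), h1, Category.id_comp]

/-- Trivial endomorphisms of stalks and inverse images. -/
theorem stalk_map_eq_id_of {X X' T₀ : Scheme.{u}} (p : X' ⟶ X) (i : T₀ ⟶ X') {Ω' : Type u} [Field Ω']
    [IsSepClosed Ω'] (ζ : Spec (CommRingCat.of Ω') ⟶ T₀) (ζ₀ : Spec (CommRingCat.of Ω') ⟶ X)
    (h : ζ ≫ i ≫ p = ζ₀) {F : EtCoh.Ab X} (φ : F ⟶ F)
    (hφ : (EtCoh.stalk ζ).map ((EtCoh.pull i).map ((EtCoh.pull p).map φ)) = 𝟙 _) :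
    (EtCoh.stalk ζ₀).map φ = 𝟙 _ := by
  subst h
  exact map_eq_id_of_iso (eqToIso (by rw [Category.assoc]) ≪≫
    Etbase.StalkPull.stalkPullIso p (ζ ≫ i) ≪≫
      Functor.isoWhiskerLeft _ (Etbase.StalkPull.stalkPullIso i ζ)) φ hφ

/-- Proper base change over henselian local rings (the statement of S3095). -/
def PBC : Prop := ∀ (A : Type u) [CommRing A] [HenselianLocalRing A]
    (X : Scheme.{u}) (f : X ⟶ Spec (CommRingCat.of A)) [IsProper f]
    [PreservesFiniteLimits (EtCoh.pull (pullback.fst f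
      (Spec.map (CommRingCat.ofHom (IsLocalRing.residue A)))))],
    PBCi (pullback.fst f (Spec.map (CommRingCat.ofHom (IsLocalRing.residue A))))

section

variable (R K Ω : Type u) [CommRing R] [Field K] [Algebra R K] [Field Ω] [Algebra K Ω]
    [Algebra R Ω]
variable [IsDomain R] [IsDiscreteValuationRing R] [IsFractionRing R K] [IsSepClosure K Ω]
  [IsScalarTower R K Ω]

/-- No vanishing cycles at the smooth points of the special fibre (from S0162). -/
def SmoothAc : Prop := ∀ {X : Scheme.{u}} (f : X ⟶ Spec (CommRingCat.of R)) (U : X.Opens)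
  (_ : Smooth (U.ι ≫ f)) (N : ℕ) (_ : IsUnit (N : R)) {Ω' : Type u} [Field Ω'] [IsSepClosed Ω']
  (ζ : Spec (CommRingCat.of Ω') ⟶ X), ζ default ∈ U → f (ζ default) = closedPoint R →
    NoVan R Ω f (EtCoh.const X (ZMod N)) ζ


variable (m : ℕ) (b : R)

/-- The origin of the special fibre of the base. -/
noncomputable def g₀ : B R m →+* ResidueField R :=
  MvPolynomial.eval₂Hom (residue R) (fun _ => 0)

theorem g₀_X (i : Fin (m + 1)) : g₀ R m (MvPolynomial.X i) = 0 := by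
  rw [g₀, MvPolynomial.coe_eval₂Hom, MvPolynomial.eval₂_X]

theorem g₀_C (r : R) : g₀ R m (MvPolynomial.C r) = residue R r := by
  rw [g₀, MvPolynomial.coe_eval₂Hom, MvPolynomial.eval₂_C]

theorem g₀_b (hb : b ∈ maximalIdeal R) : g₀ R m (MvPolynomial.C b) = 0 := by
  rw [g₀_C, residue_eq_zero_iff]
  exact hb


section Pt

variable (m : ℕ) (b : R) (hb : b ∈ maximalIdeal R) {Ω' : Type u} [Field Ω'] [IsSepClosed Ω']
  (ζ₀ : Spec (CommRingCat.of Ω') ⟶ Geo.X R m b)
  (hζ₀ : ζ₀ default = Geo.muPt R m b (g₀ R m) (g₀_b R m b hb) default)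

/-- the geometric point of the base -/
noncomputable abbrev xi : Spec (CommRingCat.of Ω') ⟶ Geo.V R m := ζ₀ ≫ Geo.π R m b

/-- The map to the residue field of the strict localization. -/
noncomputable def gκ : B R m →+* ResidueField (Osh (xi R m b ζ₀)) :=
  (residue (Osh (xi R m b ζ₀))).comp (Spec.preimage (toBase (xi R m b ζ₀))).hom

theorem spec_gκ : Spec.map (CommRingCat.ofHom (gκ R m b ζ₀)) =
    Spec.map (CommRingCat.ofHom (residue (Osh (xi R m b ζ₀)))) ≫ toBase (xi R m b ζ₀) := by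
  rw [gκ, CommRingCat.ofHom_comp, Spec.map_comp, CommRingCat.ofHom_hom]
  exact congrArg (fun z => Spec.map (CommRingCat.ofHom (residue (Osh (xi R m b ζ₀)))) ≫ z)
    (Spec.map_preimage _)

include hζ₀ in
theorem gκ_eq_zero (f : B R m) (hf : g₀ R m f = 0) : gκ R m b ζ₀ f = 0 := by
  have h1 : toBase (xi R m b ζ₀) (closedPoint (Osh (xi R m b ζ₀))) = (xi R m b ζ₀) default := by
    rw [← pt_default, ← Scheme.Hom.comp_apply, pt_toBase]
  have h2 : (xi R m b ζ₀) default = Spec.map (CommRingCat.ofHom (g₀ R m)) default := by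
    rw [← Geo.muPt_π R m b (g₀ R m) (g₀_b R m b hb)]
    change (ζ₀ ≫ Geo.π R m b) default = _
    rw [Scheme.Hom.comp_apply, Scheme.Hom.comp_apply, hζ₀]
  have h3 : Spec.map (Spec.preimage (toBase (xi R m b ζ₀))) = toBase (xi R m b ζ₀) :=
    Spec.map_preimage _
  rw [h2, ← h3] at h1
  have h4 : f ∈ (Spec.map (CommRingCat.ofHom (g₀ R m)) default : PrimeSpectrum (B R m)).asIdeal := by
    have h6 : g₀ R m f ∈ (show PrimeSpectrum (ResidueField R) from
        (default : ↥(Spec (CommRingCat.of (ResidueField R))))).asIdeal := by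
      rw [hf]
      exact Ideal.zero_mem _
    exact h6
  rw [← h1] at h4
  have h5 : (Spec.preimage (toBase (xi R m b ζ₀))).hom f ∈ maximalIdeal (Osh (xi R m b ζ₀)) := h4
  exact (residue_eq_zero_iff _).2 h5

/-- The structure map of the family over the strict localization. -/
noncomputable abbrev sA : pullback (Geo.π R m b) (toBase (xi R m b ζ₀)) ⟶
    Spec (CommRingCat.of (Osh (xi R m b ζ₀))) :=
  pullback.snd (Geo.π R m b) (toBase (xi R m b ζ₀))

/-- The closed fibre. -/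
noncomputable abbrev T0 : Scheme.{u} :=
  pullback (sA R m b ζ₀) (Spec.map (CommRingCat.ofHom (residue (Osh (xi R m b ζ₀)))))

/-- the inclusion of the closed fibre -/
noncomputable abbrev iT : T0 R m b ζ₀ ⟶ pullback (Geo.π R m b) (toBase (xi R m b ζ₀)) :=
  pullback.fst (sA R m b ζ₀) (Spec.map (CommRingCat.ofHom (residue (Osh (xi R m b ζ₀)))))

/-- its structure map -/
noncomputable abbrev cT : T0 R m b ζ₀ ⟶
    Spec (CommRingCat.of (ResidueField (Osh (xi R m b ζ₀)))) :=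
  pullback.snd (sA R m b ζ₀) (Spec.map (CommRingCat.ofHom (residue (Osh (xi R m b ζ₀)))))

theorem sqT : IsPullback (iT R m b ζ₀ ≫ pullback.fst (Geo.π R m b) (toBase (xi R m b ζ₀)))
    (cT R m b ζ₀) (Geo.π R m b) (Spec.map (CommRingCat.ofHom (gκ R m b ζ₀))) := by
  rw [spec_gκ]
  exact (IsPullback.of_hasPullback _ _).paste_horiz (IsPullback.of_hasPullback _ _)

/-- The lift of `ζ₀` to the closed fibre. -/
theorem exists_lift : ∃ ζ : Spec (CommRingCat.of Ω') ⟶ T0 R m b ζ₀,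
    ζ ≫ iT R m b ζ₀ ≫ pullback.fst (Geo.π R m b) (toBase (xi R m b ζ₀)) = ζ₀ := by
  let e := (Etbase.StrictHensStalk.ev (xi R m b ζ₀)).hom
  have he : ∀ a ∈ maximalIdeal (Osh (xi R m b ζ₀)), e a = 0 := fun a ha => by
    rw [← ker_ev (xi R m b ζ₀)] at ha
    exact ha
  let h : ResidueField (Osh (xi R m b ζ₀)) →+* Ω' := Ideal.Quotient.lift _ e he
  have h1 : h.comp (residue (Osh (xi R m b ζ₀))) = e := RingHom.ext fun a => rfl
  have h2 : Spec.map (CommRingCat.ofHom h) ≫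
      Spec.map (CommRingCat.ofHom (residue (Osh (xi R m b ζ₀)))) = pt (xi R m b ζ₀) := by
    rw [← Spec.map_comp, ← CommRingCat.ofHom_comp, h1]
    rfl
  refine ⟨pullback.lift (pullback.lift ζ₀ (pt (xi R m b ζ₀)) (pt_toBase _).symm)
    (Spec.map (CommRingCat.ofHom h)) ?_, ?_⟩
  · rw [pullback.lift_snd, h2]
  · rw [pullback.lift_fst_assoc, pullback.lift_fst]

include hζ₀ in
/-- The lift of `ζ₀` is centred at the singular point. -/
theorem lift_default (hgb : gκ R m b ζ₀ (MvPolynomial.C b) = 0)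
    (ζ : Spec (CommRingCat.of Ω') ⟶ T0 R m b ζ₀)
    (hζ : ζ ≫ iT R m b ζ₀ ≫ pullback.fst (Geo.π R m b) (toBase (xi R m b ζ₀)) = ζ₀) :
    ζ default = Geo.sec R m b (gκ R m b ζ₀) hgb _ (cT R m b ζ₀) (sqT R m b ζ₀) default := by
  refine (Geo.mem_chart_or_eq R m b (gκ R m b ζ₀) (fun i => gκ_eq_zero R m b hb ζ₀ hζ₀ _ (g₀_X R m i))
    hgb _ (cT R m b ζ₀) (sqT R m b ζ₀) (ζ default)).resolve_left ?_
  rintro ⟨i, hi⟩
  have h1 : (iT R m b ζ₀ ≫ pullback.fst (Geo.π R m b) (toBase (xi R m b ζ₀))) (ζ default) =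
      Geo.muPt R m b (g₀ R m) (g₀_b R m b hb) default := by
    rw [← Scheme.Hom.comp_apply, hζ, hζ₀]
  rw [h1, Geo.muPt, Scheme.Hom.comp_apply] at hi
  refine (mem_chartH_iff (lin R m b) (Fin.last (m + 1)) i.castSucc _).1 hi ?_
  have h2 : dehom (m + 1) (B R m) (Fin.last (m + 1)) (MvPolynomial.X i.castSucc) =
      MvPolynomial.X i := by
    rw [← Fin.succAbove_last_apply, dehom_X]
  rw [h2]
  have h6 : Geo.mu R m b (g₀ R m) (g₀_b R m b hb) (Ideal.Quotient.mk _ (MvPolynomial.X i)) ∈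
      (show PrimeSpectrum (ResidueField R) from
        (default : ↥(Spec (CommRingCat.of (ResidueField R))))).asIdeal := by
    rw [Geo.mu_X]
    exact Ideal.zero_mem _
  exact h6

theorem v_closedPoint {κ : Type u} [Field κ] (g : B R m →+* κ)
    (hg : ∀ r ∈ maximalIdeal R, g (MvPolynomial.C r) = 0) (z : Spec (CommRingCat.of κ)) :
    (Spec.map (CommRingCat.ofHom g) ≫ Geo.v R m) z = closedPoint R := by
  rw [← Spec.map_comp, ← CommRingCat.ofHom_comp]
  apply PrimeSpectrum.ext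
  have h1 : ((maximalIdeal R : Ideal R)) ≤ ((Spec.map (CommRingCat.ofHom
      (g.comp (algebraMap R (B R m))))) z : PrimeSpectrum R).asIdeal := by
    intro r hr
    have h2 : g.comp (algebraMap R (B R m)) r ∈ (show PrimeSpectrum κ from z).asIdeal := by
      have h3 : g.comp (algebraMap R (B R m)) r = 0 := hg r hr
      rw [h3]
      exact Ideal.zero_mem _
    exact h2
  exact ((maximalIdeal.isMaximal R).eq_of_le
    ((Spec.map (CommRingCat.ofHom (g.comp (algebraMap R (B R m))))) z : PrimeSpectrum R).2.ne_top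
      h1).symm

end Pt


section Main

variable (m : ℕ) (b : R) (hb : b ∈ maximalIdeal R) {Ω' : Type u} [Field Ω'] [IsSepClosed Ω']
  (ζ₀ : Spec (CommRingCat.of Ω') ⟶ Geo.X R m b)
  (hζ₀ : ζ₀ default = Geo.muPt R m b (g₀ R m) (g₀_b R m b hb) default)

include hζ₀ in
theorem main (hPB : PBC.{u}) (hSm : SmoothAc R Ω) {N : ℕ} (hN0 : 0 < N) (hN : IsUnit (N : R))
    (n : ℕ) (hn : 1 ≤ n) (σ : Ω ≃ₐ[K] Ω)
    (hΩ : Subsingleton (HH (pullback (VanCyc.jA R (Geo.π R m b ≫ Geo.v R m) Ω)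
      (pullback.fst (Geo.π R m b) (toBase (xi R m b ζ₀))))
      ((EtCoh.pull (pullback.fst (VanCyc.jA R (Geo.π R m b ≫ Geo.v R m) Ω)
      (pullback.fst (Geo.π R m b) (toBase (xi R m b ζ₀))))).obj
      ((EtCoh.pull (VanCyc.jA R (Geo.π R m b ≫ Geo.v R m) Ω)).obj
        (EtCoh.const (Geo.X R m b) (ZMod N)))) n)) :
    (EtCoh.stalk ζ₀).map ((NatTrans.rightDerived
      (VanCyc.thetaEnd (Geo.π R m b ≫ Geo.v R m) σ) n).app (EtCoh.const (Geo.X R m b) (ZMod N))) =
        𝟙 _ := by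
  have i1 : PreservesFiniteLimits (EtCoh.pull (iT R m b ζ₀)) := S0101.result _
  have hgX := fun i => gκ_eq_zero R m b hb ζ₀ hζ₀ _ (g₀_X R m i)
  have hgC : ∀ r ∈ maximalIdeal R, gκ R m b ζ₀ (MvPolynomial.C r) = 0 := fun r hr =>
    gκ_eq_zero R m b hb ζ₀ hζ₀ _ (g₀_b R m r hr)
  have hgb := hgC b hb
  obtain ⟨ζ, hζ⟩ := exists_lift R m b ζ₀
  have hζs := lift_default R m b hb ζ₀ hζ₀ hgb ζ hζ
  have i2 : IsSepClosed (ResidueField (Osh (xi R m b ζ₀))) := inferInstance
  have key := Proper.main R K Ω (Geo.v R m) (Geo.π R m b) (DS (xi R m b ζ₀))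
    (fun i => ((D (xi R m b ζ₀)).obj i).hom)
    (fun i j h => EtpbcB.BCCalc.left_hom ((D (xi R m b ζ₀)).map h))
    (fun i => ((D (xi R m b ζ₀)).obj i).prop)
    (fun i => isAffine_D (xi R m b ζ₀) i) (fun i j h => by
      have h1 : IsAffineHom ((D (xi R m b ζ₀)).map h).left := inferInstance
      exact h1) (cone (xi R m b ζ₀))
    (isLimitCone (xi R m b ζ₀)) (toBase (xi R m b ζ₀)) (fun i => leg_hom (xi R m b ζ₀) i)
    (iT R m b ζ₀) (hPB (Osh (xi R m b ζ₀)) _ (sA R m b ζ₀))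
    {Geo.sec R m b (gκ R m b ζ₀) hgb _ (cT R m b ζ₀) (sqT R m b ζ₀) default}
    (fun x hx => by
      rw [Finset.mem_singleton.1 hx]
      exact Geo.isClosed_sec R m b (gκ R m b ζ₀) hgb _ (cT R m b ζ₀) (sqT R m b ζ₀))
    (fun x hx => by
      rw [Finset.mem_singleton.1 hx]
      exact Geo.isSepClosed_sec R m b (gκ R m b ζ₀) hgb _ (cT R m b ζ₀) (sqT R m b ζ₀))
    hN0 (EtCoh.const (Geo.X R m b) (ZMod N))
    (Etrest.ConstBasic.killedBy_const _ (ZMod N) N
      (fun a => by rw [nsmul_eq_mul, CharP.cast_eq_zero, zero_mul])) n hn σ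
    (fun x hx => by
      obtain ⟨Ω'', j1, j2, ζ', hζ'⟩ := EtpbcA.Germ.exists_geomPt_aux (T0 R m b ζ₀) x
      refine ⟨Ω'', j1, j2, ζ', hζ', ?_⟩
      obtain ⟨i, hi⟩ := (Geo.mem_chart_or_eq R m b (gκ R m b ζ₀) hgX
        hgb _ (cT R m b ζ₀) (sqT R m b ζ₀) x).resolve_right (fun h => hx (Finset.mem_singleton.2 h))
      refine hSm _ _ (Geo.smooth_opensRange R m b i) N hN _ ?_ ?_
      · rw [Scheme.Hom.comp_apply, hζ']
        exact hi
      · have h0 : (ζ' ≫ iT R m b ζ₀ ≫ pullback.fst (Geo.π R m b) (toBase (xi R m b ζ₀))) default =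
            (iT R m b ζ₀ ≫ pullback.fst (Geo.π R m b) (toBase (xi R m b ζ₀))) x := by
          rw [Scheme.Hom.comp_apply, hζ']
        refine (congrArg (fun z => (Geo.π R m b ≫ Geo.v R m) z) h0).trans ?_
        refine Eq.trans ?_ (v_closedPoint R m (gκ R m b ζ₀) hgC (cT R m b ζ₀ x))
        have h1 := congrArg (fun z => (z ≫ Geo.v R m) x) (sqT R m b ζ₀).w
        exact h1)
    hΩ ζ (Finset.mem_singleton.2 hζs)
  exact stalk_map_eq_id_of _ _ ζ ζ₀ hζ _ key

end Main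

end

end Groth.Agent.Vancyc.H693.Inst
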