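import Groth.Agent.Vancyc.H693.JInj
import Groth.Agent.EtpbcA.CdRelLocal

/-!
# `jbar^* I` is `jbar_*`-acyclic for injective `I` (arbitrary `f`)
-/

set_option autoImplicit false
universe u
open CategoryTheory CategoryTheory.Limits AlgebraicGeometry Opposite Abelian
open scoped Groth.Agent.Etcore.EtInst
open Groth.Agent.Etcore.EtInst Groth.Agent.Etcore.HQ

namespace Groth.Agent.Vancyc.H693.JAcyc

variable (R K Ω : Type u) [CommRing R] [Field K] [Algebra R K] [Field Ω] [Algebra K Ω]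
    [Algebra R Ω]
variable [IsDomain R] [IsDiscreteValuationRing R] [IsFractionRing R K] [IsSepClosure K Ω]
  [IsScalarTower R K Ω]

include K in
theorem subsingleton_HQ {X V : Scheme.{u}} (f : X ⟶ Spec (CommRingCat.of R)) (p : V ⟶ X) [Etale p]
    [IsAffine V] (I : EtCoh.Ab X) [Injective I] (q : ℕ) {T : Scheme.{u}} (pr : T ⟶ VanCyc.fib R f Ω)
    (k : T ⟶ VanCyc.fib R (p ≫ f) Ω) [IsIso k]
    (hk : k ≫ VanCyc.jA R (p ≫ f) Ω ≫ p = pr ≫ VanCyc.jA R f Ω) :
    Subsingleton (HQ ((EtCoh.pull (VanCyc.jA R f Ω)).obj I) pr (q + 1)) := by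
  have hI : Injective ((EtCoh.pull p).obj I) := Groth.Agent.Sga4h.PullInj.injective_pull p I
  have : IsAffineHom (p ≫ f) := isAffineHom_of_isAffine _
  have h4 : Subsingleton (HQ ((EtCoh.pull p).obj I) (VanCyc.jA R (p ≫ f) Ω) (q + 1)) :=
    (subsingleton_H_iff _ _).1 (JInj.subsingleton_H R K Ω (p ≫ f) ((EtCoh.pull p).obj I)
      (q + 1) (Nat.le_add_left 1 q))
  have h3 := (Groth.Agent.Etcore.LimBC1.cmp_bijective I p (VanCyc.jA R (p ≫ f) Ω) rfl (q + 1)).2.subsingleton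
  have h2 := (Groth.Agent.Etcore.LimBC1.res_bijective I k hk (q + 1)).2.subsingleton
  exact (Groth.Agent.Etcore.LimBC1.cmp_bijective I (VanCyc.jA R f Ω) pr rfl (q + 1)).1.subsingleton

include K in
theorem isZero_Rpush {X : Scheme.{u}} (f : X ⟶ Spec (CommRingCat.of R)) (I : EtCoh.Ab X)
    [Injective I] (q : ℕ) :
    IsZero ((EtCoh.Rpush (VanCyc.jA R f Ω) (q + 1)).obj ((EtCoh.pull (VanCyc.jA R f Ω)).obj I)) := by
  refine Groth.Agent.EtpbcA.CdRelLocal.isZero_Rpush_succ _ _ _ fun V hV => ?_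
  have : IsAffine V.left := hV
  have : Etale V.hom := V.prop
  exact subsingleton_HQ R K Ω f (V := V.left) V.hom I q ((EtCoh.bc (VanCyc.jA R f Ω)).obj V).hom
    (pullbackRightPullbackFstIso f (VanCyc.toS R Ω) V.hom).hom (by
      rw [← Category.assoc]
      exact (congrArg (fun t => t ≫ V.hom)
        (pullbackRightPullbackFstIso_hom_fst f (VanCyc.toS R Ω) V.hom)).trans pullback.condition)

end Groth.Agent.Vancyc.H693.JAcyc
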