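import Groth.Agent.Sga4h.NcTransfer
import Groth.Agent.Sga4h.PullInj
import Groth.Agent.Etcore.LimBC1L
import Groth.Agent.Models.DVRGeneric
import Groth.Prelude.Def_VanCyc

/-!
# `jbar^* I` is acyclic for injective `I`

`R` a discrete valuation ring, `K` its fraction field, `Ω` a separable closure of `K`, `f : X ⟶ Spec R`
quasi-compact quasi-separated, `I` an injective sheaf on `X`: `H^q(X_Ω, jbar^* I) = 0` for `q ≥ 1`.
-/

set_option autoImplicit false
universe u
open CategoryTheory CategoryTheory.Limits AlgebraicGeometry Opposite Abelian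
open scoped Groth.Agent.Etcore.EtInst
open Groth.Agent.Etcore.EtInst Groth.Agent.Etcore.HQ
open Groth.Agent.Sga4h.NcTransfer Groth.Agent.Etcore.PullbackLim

namespace Groth.Agent.Vancyc.H693.JInj

variable (R K Ω : Type u) [CommRing R] [Field K] [Algebra R K] [Field Ω] [Algebra K Ω]
    [Algebra R Ω]

/-- The finite levels `Spec M ⟶ Spec R`. -/
noncomputable def τ (a : (Idx K Ω)ᵒᵖ) : (specSys (gSys K Ω)).obj a ⟶ Spec (CommRingCat.of R) :=
  gτ K Ω a ≫ VanCyc.toS R K

theorem τ_w ⦃a b : (Idx K Ω)ᵒᵖ⦄ (h : a ⟶ b) :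
    (specSys (gSys K Ω)).map h ≫ τ R K Ω b = τ R K Ω a := by
  rw [τ, ← Category.assoc, gτ_w K Ω h]
  rfl

theorem τ_π [IsScalarTower R K Ω] (a : (Idx K Ω)ᵒᵖ) :
    (specCone (gSys K Ω) (gCocone K Ω)).π.app a ≫ τ R K Ω a = VanCyc.toS R Ω := by
  rw [τ, ← Category.assoc, gτ_π K Ω a]
  exact VanCyc.toS_comp R K Ω

instance etale_gτ (a : (Idx K Ω)ᵒᵖ) : Etale (gτ K Ω a) := by
  have h1 : Algebra.IsSeparable K a.unop.toIntermediateField := inferInstance
  have h2 : FiniteDimensional K a.unop.toIntermediateField := inferInstance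
  have h3 : Algebra.FormallyEtale K a.unop.toIntermediateField :=
    (Algebra.FormallyEtale.iff_isSeparable K a.unop.toIntermediateField).2 h1
  have h4 : Algebra.FinitePresentation K a.unop.toIntermediateField :=
    Algebra.FinitePresentation.of_finiteType.1 inferInstance
  have h5 : Algebra.Etale K a.unop.toIntermediateField := ⟨h3, h4⟩
  exact HasRingHomProperty.Spec_iff.mpr (RingHom.etale_algebraMap.mpr h5)

theorem etale_τ [IsDomain R] [IsDiscreteValuationRing R] [IsFractionRing R K] (a : (Idx K Ω)ᵒᵖ) :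
    Etale (τ R K Ω a) := by
  have := Groth.Agent.Models.DVRGeneric.isOpenImmersion_generic R K
  unfold τ
  infer_instance

variable [IsDomain R] [IsDiscreteValuationRing R] [IsFractionRing R K] [IsSepClosure K Ω]
  [IsScalarTower R K Ω]

include K in
theorem subsingleton_H {X : Scheme.{u}} (f : X ⟶ Spec (CommRingCat.of R)) [QuasiCompact f]
    [QuasiSeparated f] (I : EtCoh.Ab X) [Injective I] (q : ℕ) (hq : 1 ≤ q) :
    Subsingleton (EtCoh.H (VanCyc.fib R f Ω) ((EtCoh.pull (VanCyc.jA R f Ω)).obj I) q) := by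
  obtain ⟨q, rfl⟩ : ∃ k, q = k + 1 := ⟨q - 1, by omega⟩
  have : IsGalois K Ω := inferInstance
  have hc : IsLimit (specCone (gSys K Ω) (gCocone K Ω)) :=
    isLimitSpecCone _ _ (nonempty_isColimit_gCocone K Ω).some
  have hc' : IsLimit (cone (specSys (gSys K Ω)) (τ R K Ω) (τ_w R K Ω) f
      (specCone (gSys K Ω) (gCocone K Ω)) (VanCyc.toS R Ω) (τ_π R K Ω)) :=
    isLimitCone _ _ _ f _ _ _ hc
  have haff : ∀ {i j : (Idx K Ω)ᵒᵖ} (h : i ⟶ j),
      IsAffineHom ((sys (specSys (gSys K Ω)) (τ R K Ω) (τ_w R K Ω) f).map h) := fun h =>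
    isAffineHom_mapp _ _ _ f (fun a b h => isAffineHom_specSys (gSys K Ω) h) h
  have hT : ∀ a, CompactSpace ((specSys (gSys K Ω)).obj a) := fun a =>
    inferInstanceAs (CompactSpace (Spec ((gSys K Ω).obj a.unop)))
  have hT' : ∀ a, QuasiSeparatedSpace ((specSys (gSys K Ω)).obj a) := fun a =>
    inferInstanceAs (QuasiSeparatedSpace (Spec ((gSys K Ω).obj a.unop)))
  have hqc : ∀ a, CompactSpace ((sys (specSys (gSys K Ω)) (τ R K Ω) (τ_w R K Ω) f).obj a) :=
    fun a => compactSpace_obj _ _ _ f a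
  have hqs : ∀ a, QuasiSeparatedSpace ((sys (specSys (gSys K Ω)) (τ R K Ω) (τ_w R K Ω) f).obj a) :=
    fun a => quasiSeparatedSpace_obj _ _ _ f a
  rw [subsingleton_H_iff]
  refine subsingleton_of_forall_eq 0 fun (x : HQ I (VanCyc.jA R f Ω) (q + 1)) => ?_
  obtain ⟨j, ξj, rfl⟩ := Groth.Agent.Etcore.LimBC1.exists_res_eq
    (D := sys (specSys (gSys K Ω)) (τ R K Ω) (τ_w R K Ω) f) (S := VanCyc.fib R f Ω)
    (fun a => proj (specSys (gSys K Ω)) (τ R K Ω) f
      (specCone (gSys K Ω) (gCocone K Ω)) (VanCyc.toS R Ω) (τ_π R K Ω) a)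
    (fun h => proj_mapp _ _ (τ_w R K Ω) f _ _ _ h) hc'
    (fun a => pullback.fst f (τ R K Ω a)) (fun h => mapp_fst _ _ (τ_w R K Ω) f h)
    (fun a => proj_fst _ _ f _ _ (τ_π R K Ω) a) I (q + 1) x
  have h1 : Etale (pullback.fst f (τ R K Ω j)) := by
    have := etale_τ R K Ω j
    infer_instance
  have h2 : ξj = 0 := eq_zero_of_injective I (pullback.fst f (τ R K Ω j)) q ξj
  rw [h2]
  exact map_zero (res I (proj (specSys (gSys K Ω)) (τ R K Ω) f
      (specCone (gSys K Ω) (gCocone K Ω)) (VanCyc.toS R Ω) (τ_π R K Ω) j) _ (q + 1))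

end Groth.Agent.Vancyc.H693.JInj
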