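import Groth.Agent.Vancyc.H693.TopMain
import Groth.Agent.Etcore.PullbackSys
import Groth.Agent.Sga4h.NcLimEt

/-!
# Pull-backs of injectives along cofiltered limits of étale maps

`π : X ⟶ V` qcqs, `V` over `Spec R`, `T ⟶ V` a cofiltered limit of affine étale `V`-schemes,
`X' = X ×_V T`, `I` injective on `X`: the pull-back of `I` to `X'_Ω` is acyclic for global sections.
-/

set_option autoImplicit false
universe u
open CategoryTheory CategoryTheory.Limits AlgebraicGeometry Opposite Abelian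
open scoped Groth.Agent.Etcore.EtInst
open Groth.Agent.Etcore.EtInst Groth.Agent.Etcore.HQ Groth.Agent.Etcore.PullbackSys

namespace Groth.Agent.Vancyc.H693.LimI

variable (R K Ω : Type u) [CommRing R] [Field K] [Algebra R K] [Field Ω] [Algebra K Ω]
    [Algebra R Ω]
variable [IsDomain R] [IsDiscreteValuationRing R] [IsFractionRing R K] [IsSepClosure K Ω]
  [IsScalarTower R K Ω]

include K in
theorem subsingleton_HQ_et {X V : Scheme.{u}} (f : X ⟶ Spec (CommRingCat.of R)) (p : V ⟶ X) [Etale p]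
    [QuasiCompact (p ≫ f)] [QuasiSeparated (p ≫ f)] (I : EtCoh.Ab X) [Injective I] (q : ℕ)
    {T : Scheme.{u}} (t : T ⟶ X) (k : T ⟶ VanCyc.fib R (p ≫ f) Ω) [IsIso k]
    (hk : k ≫ VanCyc.jA R (p ≫ f) Ω ≫ p = t) :
    Subsingleton (HQ I t (q + 1)) := by
  have hI : Injective ((EtCoh.pull p).obj I) := Groth.Agent.Sga4h.PullInj.injective_pull p I
  have h4 : Subsingleton (HQ ((EtCoh.pull p).obj I) (VanCyc.jA R (p ≫ f) Ω) (q + 1)) :=
    (subsingleton_H_iff _ _).1 (JInj.subsingleton_H R K Ω (p ≫ f) ((EtCoh.pull p).obj I)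
      (q + 1) (Nat.le_add_left 1 q))
  have h3 := (Groth.Agent.Etcore.LimBC1.cmp_bijective I p (VanCyc.jA R (p ≫ f) Ω) rfl (q + 1)).2.subsingleton
  exact (Groth.Agent.Etcore.LimBC1.res_bijective I k hk (q + 1)).2.subsingleton

variable {V X : Scheme.{u}} (v : V ⟶ Spec (CommRingCat.of R)) (π : X ⟶ V) [QuasiCompact π]
  [QuasiSeparated π] {J : Type u} [SmallCategory J] [IsCofiltered J] (T : J ⥤ Scheme.{u})
  (τ : ∀ a : J, T.obj a ⟶ V) (hτ : ∀ ⦃a b : J⦄ (h : a ⟶ b), T.map h ≫ τ b = τ a)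
  (het : ∀ a, Etale (τ a)) (hT : ∀ a, IsAffine (T.obj a))
  (haff : ∀ ⦃a b : J⦄ (h : a ⟶ b), IsAffineHom (T.map h))
  (c : Cone T) (hc : IsLimit c) (t : c.pt ⟶ V) (ht : ∀ a, c.π.app a ≫ τ a = t)

theorem isAffineHom_jA (f : X ⟶ Spec (CommRingCat.of R)) : IsAffineHom (VanCyc.jA R f Ω) :=
  MorphismProperty.pullback_fst (P := @IsAffineHom) f (VanCyc.toS R Ω) inferInstance

/-- The `Ω`-fibre of a base change. -/
noncomputable def fibMap {X Xa : Scheme.{u}} (f : X ⟶ Spec (CommRingCat.of R)) (p : Xa ⟶ X) :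
    VanCyc.fib R (p ≫ f) Ω ⟶ VanCyc.fib R f Ω :=
  pullback.lift (VanCyc.jA R (p ≫ f) Ω ≫ p) (VanCyc.fibStr R (p ≫ f) Ω) (by
    rw [Category.assoc]; exact pullback.condition)

theorem isPullback_fibMap {X Xa : Scheme.{u}} (f : X ⟶ Spec (CommRingCat.of R)) (p : Xa ⟶ X) :
    IsPullback (fibMap R Ω f p) (VanCyc.jA R (p ≫ f) Ω) (VanCyc.jA R f Ω) p := by
  refine IsPullback.of_right (h₁₂ := VanCyc.fibStr R f Ω) (v₁₃ := VanCyc.toS R Ω) (h₂₂ := f) ?_
    (pullback.lift_fst _ _ _) (IsPullback.of_hasPullback f (VanCyc.toS R Ω)).flip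
  have e : fibMap R Ω f p ≫ VanCyc.fibStr R f Ω = VanCyc.fibStr R (p ≫ f) Ω := pullback.lift_snd _ _ _
  rw [e]
  exact (IsPullback.of_hasPullback (p ≫ f) (VanCyc.toS R Ω)).flip

include K hT het in
theorem subsingleton_stage (I : EtCoh.Ab X) [Injective I] (q : ℕ) (a : J) :
    Subsingleton (HQ I (pullback.fst (VanCyc.jA R (π ≫ v) Ω ≫ π) (τ a) ≫ VanCyc.jA R (π ≫ v) Ω)
      (q + 1)) := by
  have h1 : Etale (τ a) := het a
  have h2 : IsAffine (T.obj a) := hT a
  -- the stage `X_a = X ×_V T_a`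
  let p : pullback π (τ a) ⟶ X := pullback.fst π (τ a)
  have hp : Etale p := inferInstanceAs (Etale (pullback.fst π (τ a)))
  have e1 : p ≫ π ≫ v = pullback.snd π (τ a) ≫ τ a ≫ v := by
    rw [← Category.assoc, ← Category.assoc]
    exact congrArg (fun s => s ≫ v) pullback.condition
  have h3 : IsAffineHom (τ a ≫ v) := isAffineHom_of_isAffine _
  have h4 : QuasiCompact (p ≫ π ≫ v) := by rw [e1]; infer_instance
  have h5 : QuasiSeparated (p ≫ π ≫ v) := by rw [e1]; infer_instance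
  -- both sides are the fibre product `X_Ω ×_V T_a`
  have S2 := isPullback_fibMap R Ω (π ≫ v) p
  have S := S2.paste_vert (IsPullback.of_hasPullback π (τ a))
  let k := (IsPullback.of_hasPullback (VanCyc.jA R (π ≫ v) Ω ≫ π) (τ a)).isoIsPullback _ _ S
  refine subsingleton_HQ_et R K Ω (π ≫ v) p I q _ k.hom ?_
  rw [← S2.w, ← Category.assoc]
  exact congrArg (fun s => s ≫ VanCyc.jA R (π ≫ v) Ω) (IsPullback.isoIsPullback_hom_fst _ _ _ _)

include K hT het hτ haff hc ht in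
/-- **Global sections over `X'_Ω` are acyclic for pull-backs of injectives.** -/
theorem subsingleton_lim (I : EtCoh.Ab X) [Injective I] (q : ℕ) :
    Subsingleton (HQ I (pullback.fst (VanCyc.jA R (π ≫ v) Ω ≫ π) t ≫ VanCyc.jA R (π ≫ v) Ω)
      (q + 1)) := by
  have h0 : IsAffineHom (VanCyc.jA R (π ≫ v) Ω) := isAffineHom_jA R Ω (π ≫ v)
  let f := VanCyc.jA R (π ≫ v) Ω ≫ π
  have hc' : IsLimit (cone T τ hτ f c t ht) := isLimitCone T τ hτ f c t ht hc
  have haff' : ∀ {i j : J} (h : i ⟶ j), IsAffineHom ((sys T τ hτ f).map h) := fun h =>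
    isAffineHom_mapp T τ hτ f haff h
  have hqc : ∀ a, CompactSpace ((sys T τ hτ f).obj a) := fun a => by
    have := hT a
    exact compactSpace_obj T τ hτ f a
  have hqs : ∀ a, QuasiSeparatedSpace ((sys T τ hτ f).obj a) := fun a => by
    have := hT a
    exact quasiSeparatedSpace_obj T τ hτ f a
  refine subsingleton_of_forall_eq 0 fun
    (x : HQ I (pullback.fst f t ≫ VanCyc.jA R (π ≫ v) Ω) (q + 1)) => ?_
  obtain ⟨j, ξj, rfl⟩ := Groth.Agent.Etcore.LimBC1.exists_res_eq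
    (D := sys T τ hτ f) (S := pullback f t) (fun a => proj T τ f c t ht a)
    (fun h => proj_mapp T τ hτ f c t ht h) hc'
    (fun a => pullback.fst f (τ a) ≫ VanCyc.jA R (π ≫ v) Ω)
    (fun h => by rw [← Category.assoc]; exact congrArg (fun s => s ≫ _) (mapp_fst T τ hτ f h))
    (fun a => by rw [← Category.assoc]; exact congrArg (fun s => s ≫ _) (proj_fst T τ f c t ht a)) I (q + 1) x
  have h2 := subsingleton_stage R K Ω v π T τ het hT I q j
  have h3 : ξj = 0 := @Subsingleton.elim _ h2 _ _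
  rw [h3]
  exact map_zero _

end Groth.Agent.Vancyc.H693.LimI
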