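import Groth.Agent.Vancyc.H693.Inst

/-!
# Triviality of the action on a stalk

`Triv f σ n F z`: the endomorphism of the stalk at `z` of `R^n(jbar_* jbar^*) F` induced by `σ` is the
identity (with the short instances of `EtInst`).  `Triv` is a definition so that the kernel never
compares the underlying expressions at concrete schemes.
-/

set_option autoImplicit false
universe u
open CategoryTheory CategoryTheory.Limits AlgebraicGeometry Opposite IsLocalRing
open scoped Groth.Agent.Etcore.EtInst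
open Groth.Agent.Etcore.EtInst Groth.Agent.Etcore.HQ

namespace Groth.Agent.Vancyc.H693.Tr

theorem of_iso_abs {C D E : Type*} [Category C] [Abelian C] [HasInjectiveResolutions C]
    [Category D] [Abelian D] [Category E] {Θ : C ⥤ D} [Θ.Additive] (τ : Θ ⟶ Θ) (S : D ⥤ E) (n : ℕ)
    {F G : C} (e : F ≅ G) (h : S.map ((NatTrans.rightDerived τ n).app F) = 𝟙 _) :
    S.map ((NatTrans.rightDerived τ n).app G) = 𝟙 _ := by
  have h1 := (NatTrans.rightDerived τ n).naturality e.hom
  have h2 := congrArg (fun t => S.map t) h1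
  simp only [Functor.map_comp] at h2
  rw [h, Category.id_comp] at h2
  rw [← cancel_epi (S.map ((Θ.rightDerived n).map e.hom)), h2, Category.comp_id]

section

variable {R K Ω : Type u} [CommRing R] [IsLocalRing R] [Field K] [Algebra R K] [Field Ω] [Algebra K Ω]
    [Algebra R Ω] [IsScalarTower R K Ω]

/-- The action of `σ` on the stalk at `z` of `R^n Θ F` is trivial. -/
def Triv {X : Scheme.{u}} (f : X ⟶ Spec (CommRingCat.of R)) (σ : Ω ≃ₐ[K] Ω) (n : ℕ)
    (F : EtCoh.Ab X) {Ω' : Type u} [Field Ω'] [IsSepClosed Ω']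
    (z : Spec (CommRingCat.of Ω') ⟶ X) : Prop :=
  (EtCoh.stalk z).map ((NatTrans.rightDerived (VanCyc.thetaEnd f σ) n).app F) = 𝟙 _

theorem Triv.intro {X : Scheme.{u}} {f : X ⟶ Spec (CommRingCat.of R)} {σ : Ω ≃ₐ[K] Ω} {n : ℕ}
    {F : EtCoh.Ab X} {Ω' : Type u} [Field Ω'] [IsSepClosed Ω'] {z : Spec (CommRingCat.of Ω') ⟶ X}
    (h : (EtCoh.stalk z).map ((NatTrans.rightDerived (VanCyc.thetaEnd f σ) n).app F) = 𝟙 _) :
    Triv f σ n F z := h

theorem Triv.elim {X : Scheme.{u}} {f : X ⟶ Spec (CommRingCat.of R)} {σ : Ω ≃ₐ[K] Ω} {n : ℕ}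
    {F : EtCoh.Ab X} {Ω' : Type u} [Field Ω'] [IsSepClosed Ω'] {z : Spec (CommRingCat.of Ω') ⟶ X}
    (h : Triv f σ n F z) :
    (EtCoh.stalk z).map ((NatTrans.rightDerived (VanCyc.thetaEnd f σ) n).app F) = 𝟙 _ := h

variable {X : Scheme.{u}} {f : X ⟶ Spec (CommRingCat.of R)} {σ : Ω ≃ₐ[K] Ω} {n : ℕ}
    {F : EtCoh.Ab X} {Ω' : Type u} [Field Ω'] [IsSepClosed Ω'] {z : Spec (CommRingCat.of Ω') ⟶ X}

/-- Change of coefficients. -/
theorem Triv.of_iso {G : EtCoh.Ab X} (e : F ≅ G) (h : Triv f σ n F z) : Triv f σ n G z :=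
  Triv.intro (of_iso_abs (VanCyc.thetaEnd f σ) (EtCoh.stalk z) n e h.elim)

/-- Change of the name of the structure morphism. -/
theorem Triv.of_eq {g : X ⟶ Spec (CommRingCat.of R)} (hfg : f = g) (h : Triv f σ n F z) :
    Triv g σ n F z := by
  subst hfg
  exact h

/-- Change of the name of the geometric point. -/
theorem Triv.of_eq_pt {w : Spec (CommRingCat.of Ω') ⟶ X} (hzw : z = w) (h : Triv f σ n F z) :
    Triv f σ n F w := by
  subst hzw
  exact h

variable (R K Ω) in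
/-- Étale invariance of the triviality of the action on the stalk. -/
def ET : Prop := ∀ {X U : Scheme.{u}} (f : X ⟶ Spec (CommRingCat.of R)) (p : U ⟶ X) (_ : Etale p)
  {Ω' : Type u} [Field Ω'] [IsSepClosed Ω'] (z : Spec (CommRingCat.of Ω') ⟶ U) (F : EtCoh.Ab X)
  (n : ℕ) (σ : Ω ≃ₐ[K] Ω),
  Triv f σ n F (z ≫ p) ↔ Triv (p ≫ f) σ n ((EtCoh.pull p).obj F) z

end

end Groth.Agent.Vancyc.H693.Tr
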