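import Groth.Agent.Vancyc.H693.OmVan
import Groth.Agent.Vancyc.H693.Triv

/-!
# Trivial action on the stalk at the singular point of the family
-/

set_option autoImplicit false
universe u
open CategoryTheory CategoryTheory.Limits AlgebraicGeometry Opposite IsLocalRing
open scoped Groth.Agent.Etcore.EtInst
open Groth.Agent.Etcore.EtInst Groth.Agent.Etcore.HQ

namespace Groth.Agent.Vancyc.H693.ModelX

open Groth.Agent Groth.Agent.EtpbcB.StrictLoc Groth.Agent.Vancyc.H693.Inst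
open Groth.Agent.Vancyc.H693.OmVan Groth.Agent.Vancyc.H693.Tr

variable (R K Ω : Type u) [CommRing R] [Field K] [Algebra R K] [Field Ω] [Algebra K Ω]
    [Algebra R Ω]
variable [IsDomain R] [IsDiscreteValuationRing R] [IsFractionRing R K] [IsSepClosure K Ω]
  [IsScalarTower R K Ω]
variable (m : ℕ) (b : R) (hb : b ∈ maximalIdeal R) {Ω' : Type u} [Field Ω'] [IsSepClosed Ω']
  (ζ₀ : Spec (CommRingCat.of Ω') ⟶ Geo.X R m b)
  (hζ₀ : ζ₀ default = Geo.muPt R m b (g₀ R m) (g₀_b R m b hb) default)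

theorem hsp_aux {V S : Scheme.{u}} {A : CommRingCat.{u}} [IsLocalRing A] (t : Spec A ⟶ V) (v : V ⟶ S)
    (s : S) (h : ∀ z, ((Spec.map (CommRingCat.ofHom (residue A)) ≫ t) ≫ v) z = s) :
    (t ≫ v) (closedPoint A) = s := by
  rw [← h (closedPoint (ResidueField A)), Category.assoc, Scheme.Hom.comp_apply _ (t ≫ v)]
  congr 1
  exact (IsLocalRing.comap_closedPoint (residue A)).symm

include hζ₀ in
theorem hsp : (toBase (xi R m b ζ₀) ≫ Geo.v R m) (closedPoint (Osh (xi R m b ζ₀))) =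
    closedPoint R := by
  refine hsp_aux _ _ _ (fun z => ?_)
  rw [← spec_gκ R m b ζ₀]
  exact v_closedPoint R m (gκ R m b ζ₀)
    (fun r hr => gκ_eq_zero R m b hb ζ₀ hζ₀ _ (g₀_b R m r hr)) z

include hζ₀ in
/-- **The action on the stalk of the nearby cycles of degree `2 m + 1` at the singular point is
trivial.** -/
theorem triv (hPB : PBC.{u}) (hSm : SmoothAc R Ω) (hPV : ProjVan R Ω) (hb0 : b ≠ 0) {N : ℕ}
    (hN : IsUnit (N : R)) (σ : Ω ≃ₐ[K] Ω) :
    Triv (Geo.π R m b ≫ Geo.v R m) σ (2 * m + 1) (EtCoh.const (Geo.X R m b) (ZMod N)) ζ₀ := by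
  have hN0 : 0 < N := by
    rcases Nat.eq_zero_or_pos N with rfl | h
    · rw [Nat.cast_zero] at hN
      exact absurd hN not_isUnit_zero
    · exact h
  exact Triv.intro (Inst.main R K Ω m b hb ζ₀ hζ₀ hPB hSm hN0 hN (2 * m + 1) (by omega) σ
    (OmVan.subsingleton_H R K Ω m b ζ₀ hb0 hPV (hsp R m b hb ζ₀ hζ₀) hN (2 * m + 1) (by omega)))

end Groth.Agent.Vancyc.H693.ModelX
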