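import Groth.Agent.Vancyc.H693.Inst
import Groth.Agent.Vancyc.H782.HypIso

/-!
# The geometric generic fibre of the family over the strict localization

It is a projective space over the geometric generic fibre of the strict localization of the base, hence
has no cohomology above twice the dimension.
-/

set_option autoImplicit false
universe u
open CategoryTheory CategoryTheory.Limits AlgebraicGeometry Opposite IsLocalRing
open scoped Groth.Agent.Etcore.EtInst
open Groth.Agent.Etcore.EtInst Groth.Agent.Etcore.HQ Groth.Agent.Etcore.PullbackSys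

namespace Groth.Agent.Vancyc.H693.OmVan

open Groth.Agent Groth.Agent.EtpbcB.StrictLoc Groth.Agent.Etrest.StrictLoc
open Groth.Agent.Vancyc.H693.GeoAlg Groth.Agent.Vancyc.H693.Inst

section

variable (R K Ω : Type u) [CommRing R] [Field K] [Algebra R K] [Field Ω] [Algebra K Ω]
    [Algebra R Ω]
variable [IsDomain R] [IsDiscreteValuationRing R] [IsFractionRing R K] [IsSepClosure K Ω]
  [IsScalarTower R K Ω]

/-- Vanishing of the cohomology of `P^m × W_Ω` above degree `2 m`. -/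
def ProjVan : Prop := ∀ {P : Scheme.{u}} (p : P ⟶ Spec (CommRingCat.of R)) [Smooth p]
    {A : Type u} [CommRing A] [IsLocalRing A] (ξ : Spec (CommRingCat.of A) ⟶ P) (_ : IsStrictLoc ξ)
    (_ : (ξ ≫ p).base (closedPoint A) = closedPoint R) (m : ℕ) (N : ℕ) (_ : IsUnit (N : R)) (q : ℕ)
    (_ : 2 * m < q),
    Subsingleton (EtCoh.H (CohB1.ProjSpaceOver m (pullback (ξ ≫ p) (VanCyc.toS R Ω)))
      (EtCoh.const _ (ZMod N)) q)

variable (m : ℕ) (b : R) {Ω' : Type u} [Field Ω'] [IsSepClosed Ω']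
  (ζ₀ : Spec (CommRingCat.of Ω') ⟶ Geo.X R m b)

/-- `W_Ω` -/
noncomputable abbrev W : Scheme.{u} :=
  pullback (toBase (xi R m b ζ₀) ≫ Geo.v R m) (VanCyc.toS R Ω)

/-- `W_Ω ⟶ V` -/
noncomputable abbrev z : W R Ω m b ζ₀ ⟶ Geo.V R m :=
  pullback.fst (toBase (xi R m b ζ₀) ≫ Geo.v R m) (VanCyc.toS R Ω) ≫ toBase (xi R m b ζ₀)

include K in
theorem isUnit_b (hb0 : b ≠ 0) : IsUnit ((z R Ω m b ζ₀).appTop.hom
    ((Scheme.ΓSpecIso (CommRingCat.of (B R m))).inv.hom (MvPolynomial.C b))) := by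
  have h1 : z R Ω m b ζ₀ ≫ Geo.v R m = pullback.snd (toBase (xi R m b ζ₀) ≫ Geo.v R m)
      (VanCyc.toS R Ω) ≫ VanCyc.toS R Ω := by
    rw [Category.assoc]
    exact pullback.condition
  have h2 : ∀ (S T : Type u) [CommRing S] [CommRing T] (φ : S →+* T) (s : S),
      (Spec.map (CommRingCat.ofHom φ)).appTop.hom ((Scheme.ΓSpecIso (CommRingCat.of S)).inv.hom s) =
        (Scheme.ΓSpecIso (CommRingCat.of T)).inv.hom (φ s) := by
    intro S T _ _ φ s
    have h3 := Scheme.ΓSpecIso_inv_naturality (CommRingCat.ofHom φ)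
    exact (congrArg (fun t => t.hom s) h3).symm
  have h4 : (z R Ω m b ζ₀).appTop.hom ((Scheme.ΓSpecIso (CommRingCat.of (B R m))).inv.hom
      (MvPolynomial.C b)) = (z R Ω m b ζ₀ ≫ Geo.v R m).appTop.hom
        ((Scheme.ΓSpecIso (CommRingCat.of R)).inv.hom b) := by
    rw [Scheme.Hom.comp_appTop]
    exact congrArg (z R Ω m b ζ₀).appTop.hom (h2 R (B R m) (algebraMap R (B R m)) b).symm
  rw [h4, h1, Scheme.Hom.comp_appTop]
  have h5 : IsUnit (algebraMap R Ω b) := by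
    rw [isUnit_iff_ne_zero, IsScalarTower.algebraMap_apply R K Ω]
    exact (map_ne_zero_iff _ (algebraMap K Ω).injective).2
      ((map_ne_zero_iff _ (IsFractionRing.injective R K)).2 hb0)
  have h6 := ((h5.map (Scheme.ΓSpecIso (CommRingCat.of Ω)).inv.hom).map
    (pullback.snd (toBase (xi R m b ζ₀) ≫ Geo.v R m) (VanCyc.toS R Ω)).appTop.hom)
  rw [← h2 R Ω (algebraMap R Ω) b] at h6
  exact h6

/-- `Y ⟶ W_Ω` -/
theorem exists_isPullback_Y : ∃ w : pullback (VanCyc.jA R (Geo.π R m b ≫ Geo.v R m) Ω)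
      (pullback.fst (Geo.π R m b) (toBase (xi R m b ζ₀))) ⟶ W R Ω m b ζ₀,
    IsPullback (pullback.fst (VanCyc.jA R (Geo.π R m b ≫ Geo.v R m) Ω)
      (pullback.fst (Geo.π R m b) (toBase (xi R m b ζ₀))) ≫
        VanCyc.jA R (Geo.π R m b ≫ Geo.v R m) Ω) w (Geo.π R m b) (z R Ω m b ζ₀) := by
  have sA := (IsPullback.of_hasPullback (VanCyc.jA R (Geo.π R m b ≫ Geo.v R m) Ω)
      (pullback.fst (Geo.π R m b) (toBase (xi R m b ζ₀))))
  have sB := IsPullback.of_hasPullback (Geo.π R m b ≫ Geo.v R m) (VanCyc.toS R Ω)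
  have sC := IsPullback.of_hasPullback (toBase (xi R m b ζ₀) ≫ Geo.v R m) (VanCyc.toS R Ω)
  have sD := IsPullback.of_hasPullback (Geo.π R m b) (toBase (xi R m b ζ₀))
  have sE := sA.paste_horiz sB.flip
  have hc : pullback.fst (Geo.π R m b) (toBase (xi R m b ζ₀)) ≫ Geo.π R m b ≫ Geo.v R m =
      pullback.snd (Geo.π R m b) (toBase (xi R m b ζ₀)) ≫ toBase (xi R m b ζ₀) ≫ Geo.v R m := by
    rw [← Category.assoc, ← Category.assoc, sD.w]
  have hw : (pullback.snd (VanCyc.jA R (Geo.π R m b ≫ Geo.v R m) Ω)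
      (pullback.fst (Geo.π R m b) (toBase (xi R m b ζ₀))) ≫
        pullback.snd (Geo.π R m b) (toBase (xi R m b ζ₀))) ≫ toBase (xi R m b ζ₀) ≫ Geo.v R m =
      (pullback.fst (VanCyc.jA R (Geo.π R m b ≫ Geo.v R m) Ω)
        (pullback.fst (Geo.π R m b) (toBase (xi R m b ζ₀))) ≫
          pullback.snd (Geo.π R m b ≫ Geo.v R m) (VanCyc.toS R Ω)) ≫ VanCyc.toS R Ω := by
    rw [sE.w, Category.assoc, hc]
  refine ⟨sC.lift _ _ hw, ?_⟩
  rw [hc, ← sC.lift_snd _ _ hw] at sE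
  have sF := IsPullback.of_right sE (sC.lift_fst _ _ hw) sC.flip
  have sG := sF.flip.paste_horiz sD
  rw [← sA.w] at sG
  exact sG

include K in
/-- **Vanishing of the cohomology of the geometric generic fibre.** -/
theorem subsingleton_H (hb0 : b ≠ 0) (hPV : ProjVan R Ω) (hsp : (toBase (xi R m b ζ₀) ≫ Geo.v R m)
      (closedPoint (Osh (xi R m b ζ₀))) = closedPoint R) {N : ℕ} (hN : IsUnit (N : R)) (q : ℕ)
    (hq : 2 * m < q) :
    Subsingleton (HH (pullback (VanCyc.jA R (Geo.π R m b ≫ Geo.v R m) Ω)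
      (pullback.fst (Geo.π R m b) (toBase (xi R m b ζ₀))))
      ((EtCoh.pull (pullback.fst (VanCyc.jA R (Geo.π R m b ≫ Geo.v R m) Ω)
      (pullback.fst (Geo.π R m b) (toBase (xi R m b ζ₀))))).obj
      ((EtCoh.pull (VanCyc.jA R (Geo.π R m b ≫ Geo.v R m) Ω)).obj
        (EtCoh.const (Geo.X R m b) (ZMod N)))) q) := by
  have hsm : Algebra.Smooth R (B R m) := ⟨inferInstance, inferInstance⟩
  have h0 : Smooth (Geo.v R m) :=
    (HasRingHomProperty.Spec_iff (P := @Smooth)).2 (RingHom.smooth_algebraMap.2 hsm)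
  have h1 := @hPV _ (Geo.v R m) h0 (Osh (xi R m b ζ₀)) _ inferInstance (toBase (xi R m b ζ₀))
    (EtpbcB.OshHens.isStrictLoc_toBase _) hsp m N hN q hq
  obtain ⟨w, hw⟩ := exists_isPullback_Y R Ω m b ζ₀
  obtain ⟨f, hf⟩ := H782.HypIso.exists_isPullback (fun i => MvPolynomial.X i) (MvPolynomial.C b)
    (lin R m b) rfl (z R Ω m b ζ₀) (isUnit_b R K Ω m b ζ₀ hb0)
  let k := hw.isoIsPullback _ _ hf
  have hk : k.hom ≫ f = pullback.fst (VanCyc.jA R (Geo.π R m b ≫ Geo.v R m) Ω)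
      (pullback.fst (Geo.π R m b) (toBase (xi R m b ζ₀))) ≫
        VanCyc.jA R (Geo.π R m b ≫ Geo.v R m) Ω := IsPullback.isoIsPullback_hom_fst _ _ _ _
  have h2 : Subsingleton (HH _ ((EtCoh.pull f).obj (EtCoh.const (Geo.X R m b) (ZMod N))) q) :=
    EtpbcA.CdEtLeray.H_subsingleton_of_iso (EtCore.pullConst f (ZMod N)).symm q h1
  have h3 := (Etcore.LimBC1.res_bijective (EtCoh.const (Geo.X R m b) (ZMod N)) k.hom hk q).2.subsingleton
  exact (Etcore.LimBC1.cmp_bijective (EtCoh.const (Geo.X R m b) (ZMod N))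
    (VanCyc.jA R (Geo.π R m b ≫ Geo.v R m) Ω) _ rfl q).1.subsingleton

end

end Groth.Agent.Vancyc.H693.OmVan
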