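import Groth.Agent.Vancyc.H693.LimI
import Groth.Agent.Vancyc.H693.AbsDer2

/-!
# Trivial action on the sections of `p^* R^n Theta F`, `p` a base change of a limit of étale maps
-/

set_option autoImplicit false
universe u
open CategoryTheory CategoryTheory.Limits AlgebraicGeometry Opposite Abelian
open scoped Groth.Agent.Etcore.EtInst
open Groth.Agent.Etcore.EtInst Groth.Agent.Etcore.HQ Groth.Agent.Etcore.PullbackSys

namespace Groth.Agent.Vancyc.H693.PVer

variable (R K Ω : Type u) [CommRing R] [Field K] [Algebra R K] [Field Ω] [Algebra K Ω]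
    [Algebra R Ω]
variable [IsDomain R] [IsDiscreteValuationRing R] [IsFractionRing R K] [IsSepClosure K Ω]
  [IsScalarTower R K Ω]

variable {V X : Scheme.{u}} (v : V ⟶ Spec (CommRingCat.of R)) (π : X ⟶ V) [QuasiCompact π]
  [QuasiSeparated π] {J : Type u} [SmallCategory J] [IsCofiltered J] (T : J ⥤ Scheme.{u})
  (τ : ∀ a : J, T.obj a ⟶ V) (hτ : ∀ ⦃a b : J⦄ (h : a ⟶ b), T.map h ≫ τ b = τ a)
  (het : ∀ a, Etale (τ a)) (hT : ∀ a, IsAffine (T.obj a))
  (haff : ∀ ⦃a b : J⦄ (h : a ⟶ b), IsAffineHom (T.map h))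
  (c : Cone T) (hc : IsLimit c) (t : c.pt ⟶ V) (ht : ∀ a, c.π.app a ≫ τ a = t)

/-- `p : X' ⟶ X` -/
noncomputable abbrev p : pullback π t ⟶ X := pullback.fst π t

/-- `Y = X' ×_X X_Ω` -/
noncomputable abbrev Y : Scheme.{u} := pullback (VanCyc.jA R (π ≫ v) Ω) (p π T c t)

/-- `p' : Y ⟶ X_Ω` -/
noncomputable abbrev p' : Y R Ω v π T c t ⟶ VanCyc.fib R (π ≫ v) Ω :=
  pullback.fst (VanCyc.jA R (π ≫ v) Ω) (p π T c t)

/-- `j' : Y ⟶ X'` -/
noncomputable abbrev j' : Y R Ω v π T c t ⟶ pullback π t :=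
  pullback.snd (VanCyc.jA R (π ≫ v) Ω) (p π T c t)

include hc hτ ht het haff in
theorem weaklyEtale_p : WeaklyEtale (p π T c t) := by
  have h1 : ∀ {i j : J} (f : i ⟶ j), IsAffineHom (T.map f) := fun f => haff f
  have h2 : WeaklyEtale t := Groth.Agent.Sga4h.NcLimEt.weaklyEtale_of_isLimit T c hc τ hτ
    (fun i => etale_le_weaklyEtale _ _ _ (het i)) t ht
  exact MorphismProperty.pullback_fst (P := @WeaklyEtale) π t h2

include hc hτ ht het haff in
theorem isIso_bc (G : EtCoh.Ab (VanCyc.fib R (π ≫ v) Ω)) :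
    IsIso (EtCoh.baseChange0 (VanCyc.jA R (π ≫ v) Ω) (p π T c t) (j' R Ω v π T c t)
      (p' R Ω v π T c t) pullback.condition G) := by
  have h0 : IsAffineHom (VanCyc.jA R (π ≫ v) Ω) := LimI.isAffineHom_jA R Ω (π ≫ v)
  have haff' : ∀ {i j : J} (h : i ⟶ j), IsAffineHom ((sys T τ hτ π).map h) := fun h =>
    isAffineHom_mapp T τ hτ π haff h
  exact Groth.Agent.Etcore.LimBC0.isIso_baseChange0_of_limit (isLimitCone T τ hτ π c t ht hc)
    (fun a => pullback.fst π (τ a)) (fun a b h => mapp_fst T τ hτ π h)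
    (fun a => proj_fst T τ π c t ht a)
    (fun a => by
      have h2 : Etale (pullback.fst π (τ a)) :=
        MorphismProperty.pullback_fst (P := @Etale) π (τ a) (het a)
      exact @Groth.Agent.Sga4h.NcLimEt.isIso_baseChange0_of_etale _ _ _ _ _ _ h2 _ _
        (IsPullback.of_hasPullback _ _) G)
    (j' R Ω v π T c t) (p' R Ω v π T c t)
    (IsPullback.of_hasPullback (VanCyc.jA R (π ≫ v) Ω) (p π T c t))

include hc hτ ht het haff K in
theorem isZero_Rj (I : EtCoh.Ab X) [Injective I] (q : ℕ) :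
    IsZero ((EtCoh.Rpush (j' R Ω v π T c t) (q + 1)).obj ((EtCoh.pull (p' R Ω v π T c t)).obj
      ((EtCoh.pull (VanCyc.jA R (π ≫ v) Ω)).obj I))) := by
  have h0 : IsAffineHom (VanCyc.jA R (π ≫ v) Ω) := LimI.isAffineHom_jA R Ω (π ≫ v)
  have hw := weaklyEtale_p π T τ hτ het haff c hc t ht
  exact Groth.Agent.Sga4h.NcLimEt.isZero_Rpush_pull (VanCyc.jA R (π ≫ v) Ω) (p π T c t)
    (j' R Ω v π T c t) (p' R Ω v π T c t)
    (IsPullback.of_hasPullback (VanCyc.jA R (π ≫ v) Ω) (p π T c t)) _ (q + 1)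
    (JAcyc.isZero_Rpush R K Ω (π ≫ v) I q)

include hc hτ ht het haff hT K in
theorem subsingleton_HY (I : EtCoh.Ab X) [Injective I] (q : ℕ) :
    Subsingleton (HH (Y R Ω v π T c t) ((EtCoh.pull (p' R Ω v π T c t)).obj
      ((EtCoh.pull (VanCyc.jA R (π ≫ v) Ω)).obj I)) (q + 1)) := by
  have h1 := LimI.subsingleton_lim R K Ω v π T τ hτ het hT haff c hc t ht I q
  have S := (IsPullback.of_hasPullback (VanCyc.jA R (π ≫ v) Ω) (p π T c t)).paste_vert
    (IsPullback.of_hasPullback π t)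
  let k := S.isoIsPullback _ _ (IsPullback.of_hasPullback (VanCyc.jA R (π ≫ v) Ω ≫ π) t)
  have hk : k.hom ≫ pullback.fst (VanCyc.jA R (π ≫ v) Ω ≫ π) t ≫ VanCyc.jA R (π ≫ v) Ω =
      p' R Ω v π T c t ≫ VanCyc.jA R (π ≫ v) Ω := by
    rw [← Category.assoc]
    exact congrArg (fun s => s ≫ VanCyc.jA R (π ≫ v) Ω) (IsPullback.isoIsPullback_hom_fst _ _ _ _)
  have h2 := (Groth.Agent.Etcore.LimBC1.res_bijective I k.hom hk (q + 1)).2.subsingleton
  exact (Groth.Agent.Etcore.LimBC1.cmp_bijective I (VanCyc.jA R (π ≫ v) Ω) (p' R Ω v π T c t) rfl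
    (q + 1)).1.subsingleton

include hc hτ ht het haff hT K in
theorem subsingleton_H_pTheta (I : EtCoh.Ab X) [Injective I] (q : ℕ) :
    Subsingleton (HH (pullback π t) ((EtCoh.pull (p π T c t)).obj
      ((VanCyc.Theta R Ω (π ≫ v)).obj I)) (q + 1)) := by
  have h1 := isIso_bc R Ω v π T τ hτ het haff c hc t ht ((EtCoh.pull (VanCyc.jA R (π ≫ v) Ω)).obj I)
  refine Groth.Agent.EtpbcA.CdEtLeray.H_subsingleton_of_iso (@asIso _ _ _ _ _ h1).symm (q + 1) ?_
  exact Groth.Agent.EtpbcA.CdEtLeray.H_push_subsingleton_of_reverse (j' R Ω v π T c t) _ q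
    (subsingleton_HY R K Ω v π T τ hτ het hT haff c hc t ht I q)
    (fun a b _ => Groth.Agent.EtpbcA.CdEtLeray.H_subsingleton_of_isZero
      (isZero_Rj R K Ω v π T τ hτ het haff c hc t ht I b) a)

/-- Base change in degree zero, as an isomorphism of functors. -/
noncomputable def beta (h : ∀ G, IsIso (EtCoh.baseChange0 (VanCyc.jA R (π ≫ v) Ω) (p π T c t)
      (j' R Ω v π T c t) (p' R Ω v π T c t) pullback.condition G)) :
    VanCyc.Theta R Ω (π ≫ v) ⋙ EtCoh.pull (p π T c t) ≅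
      (EtCoh.pull (VanCyc.jA R (π ≫ v) Ω) ⋙ EtCoh.pull (p' R Ω v π T c t)) ⋙
        EtCoh.push (j' R Ω v π T c t) :=
  NatIso.ofComponents (fun F => @asIso _ _ _ _ _ (h ((EtCoh.pull (VanCyc.jA R (π ≫ v) Ω)).obj F)))
    (fun a => (Groth.Agent.EtpbcB.BCCalc.bcNat (pullback.condition :
      p' R Ω v π T c t ≫ VanCyc.jA R (π ≫ v) Ω = j' R Ω v π T c t ≫ p π T c t)).naturality
        ((EtCoh.pull (VanCyc.jA R (π ≫ v) Ω)).map a))

include hc hτ ht het haff hT in
/-- **Trivial action on the sections of `p^* R^n Theta F`.** -/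
theorem main (F : EtCoh.Ab X) (n : ℕ) (hn : 1 ≤ n) (σ : Ω ≃ₐ[K] Ω)
    (hΩ : Subsingleton (HH (Y R Ω v π T c t) ((EtCoh.pull (p' R Ω v π T c t)).obj
      ((EtCoh.pull (VanCyc.jA R (π ≫ v) Ω)).obj F)) n))
    (hb : ∀ a q, 1 ≤ a → 1 ≤ q → q < n → Subsingleton (HH (pullback π t)
      ((EtCoh.pull (p π T c t)).obj (((VanCyc.Theta R Ω (π ≫ v)).rightDerived q).obj F)) a))
    (hd : Function.Surjective (HHmap ((EtCoh.pull (p π T c t)).map
      ((EtCoh.pullPushAdj (VanCyc.jA R (π ≫ v) Ω)).unit.app F)) (n + 1)))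
    (s : EtCoh.const (pullback π t) ℤ ⟶
      (EtCoh.pull (p π T c t)).obj (((VanCyc.Theta R Ω (π ≫ v)).rightDerived n).obj F)) :
    s ≫ (EtCoh.pull (p π T c t)).map
      ((NatTrans.rightDerived (VanCyc.thetaEnd (π ≫ v) σ) n).app F) = s := by
  have i1 : PreservesFiniteLimits (EtCoh.pull (p π T c t)) := Groth.Agent.S0101.result _
  have i2 : PreservesFiniteLimits (EtCoh.pull (VanCyc.jA R (π ≫ v) Ω)) := Groth.Agent.S0101.result _
  have i3 : PreservesFiniteLimits (EtCoh.pull (p' R Ω v π T c t)) := Groth.Agent.S0101.result _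
  have i4 : PreservesFiniteLimits (VanCyc.Theta R Ω (π ≫ v) ⋙ EtCoh.pull (p π T c t)) :=
    comp_preservesFiniteLimits _ _
  have i5 : PreservesFiniteLimits (EtCoh.pull (VanCyc.jA R (π ≫ v) Ω) ⋙
      EtCoh.pull (p' R Ω v π T c t)) := comp_preservesFiniteLimits _ _
  have i6 : PreservesFiniteColimits (EtCoh.pull (VanCyc.jA R (π ≫ v) Ω) ⋙
      EtCoh.pull (p' R Ω v π T c t)) := comp_preservesFiniteColimits _ _
  obtain ⟨e, he⟩ := AbsDer2.exists_compExact (VanCyc.Theta R Ω (π ≫ v)) (EtCoh.pull (p π T c t))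
    (VanCyc.thetaEnd (π ≫ v) σ) F n
  have hW : ∀ (G : EtCoh.Ab (Y R Ω v π T c t)) (k : ℕ), Subsingleton (HH (Y R Ω v π T c t) G k) →
      Subsingleton (Ext.{u + 1} ((EtCoh.pull (j' R Ω v π T c t)).obj (EtCoh.const _ ℤ)) G k) :=
    fun G k h => Groth.Agent.EtpbcA.CdEtLeray.subsingleton_ext_of_iso_left
      (EtCore.pullConst (j' R Ω v π T c t) ℤ).symm G k h
  have key := AbsDer.main (VanCyc.Theta R Ω (π ≫ v) ⋙ EtCoh.pull (p π T c t))
    (Functor.whiskerRight (VanCyc.thetaEnd (π ≫ v) σ) (EtCoh.pull (p π T c t)))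
    (injectiveResolution F) (EtCoh.const (pullback π t) ℤ) n hn
    (fun I hI k hk => by
      obtain ⟨k, rfl⟩ : ∃ l, k = l + 1 := ⟨k - 1, by omega⟩
      exact subsingleton_H_pTheta R K Ω v π T τ hτ het hT haff c hc t ht I k)
    (fun a q ha hq hqn => AbsDer.subsingleton_ext_of_iso
      (Groth.Agent.Sga4h.RightDer.rightDerivedCompExact (VanCyc.Theta R Ω (π ≫ v))
        (EtCoh.pull (p π T c t)) q F).symm a (hb a q ha hq hqn))
    (AbsDer2.exists_lift (EtCoh.pull (VanCyc.jA R (π ≫ v) Ω) ⋙ EtCoh.pull (p' R Ω v π T c t))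
      (EtCoh.pullPushAdj (j' R Ω v π T c t)) _
      (beta R Ω v π T c t (isIso_bc R Ω v π T τ hτ het haff c hc t ht)) (injectiveResolution F)
      (EtCoh.const (pullback π t) ℤ) n hn
      (fun I hI k hk => by
        obtain ⟨k, rfl⟩ : ∃ l, k = l + 1 := ⟨k - 1, by omega⟩
        exact hW _ _ (subsingleton_HY R K Ω v π T τ hτ het hT haff c hc t ht I k))
      (hW _ _ hΩ))
    (by
      intro x
      obtain ⟨y, rfl⟩ := hd x
      refine (HHmap_comp _ _ (n + 1) y).symm.trans (congrArg (fun z => HHmap z (n + 1) y) ?_)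
      refine ((EtCoh.pull (p π T c t)).map_comp _ _).symm.trans ?_
      exact congrArg (fun z => (EtCoh.pull (p π T c t)).map z) (UnitTheta.unit_thetaEnd (π ≫ v) σ F))
    (s ≫ e.inv)
  have h2 : (EtCoh.pull (p π T c t)).map
      ((NatTrans.rightDerived (VanCyc.thetaEnd (π ≫ v) σ) n).app F) =
      e.inv ≫ (NatTrans.rightDerived (Functor.whiskerRight (VanCyc.thetaEnd (π ≫ v) σ)
        (EtCoh.pull (p π T c t))) n).app F ≫ e.hom := by
    rw [he, e.inv_hom_id_assoc]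
  rw [h2, ← Category.assoc, ← Category.assoc, key, Category.assoc, e.inv_hom_id, Category.comp_id]

end Groth.Agent.Vancyc.H693.PVer
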