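import Groth.Agent.Vancyc.H679.PropLES
import Groth.Agent.Etcore.HpullCalc
import Groth.Agent.EtpbcB.GeomPointIndep

/-!
# Punctual kernels and cokernels over a base where cohomology is that of the closed fibre
-/

set_option autoImplicit false
universe u
open CategoryTheory CategoryTheory.Limits CategoryTheory.Abelian AlgebraicGeometry Opposite
open scoped Groth.Agent.Etcore.EtInst
open Groth.Agent.Etcore.EtInst Groth.Agent.Etcore.HpullCalc

namespace Groth.Agent.Vancyc.H693.Punct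

open Groth.Agent Groth.Agent.CurvesA.Punctual Groth.Agent.Vancyc.H679.PropLES

section Abstract

variable {A : Type*} [Category* A] [Abelian A] [HasExt.{u + 1} A]

/-- If the kernel has no `Ext^{k+1}` and the cokernel no `Ext^k` then `Ext^k(W, -)` is surjective. -/
theorem surjective_of_ker_coker {W F G : A} (φ : F ⟶ G) (k : ℕ)
    (h1 : Subsingleton (Ext.{u + 1} W (kernel φ) (k + 1)))
    (h2 : Subsingleton (Ext.{u + 1} W (cokernel φ) k)) (x : Ext.{u + 1} W G k) :
    ∃ z : Ext.{u + 1} W F k, z.comp (Ext.mk₀ φ) (add_zero k) = x := by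
  let S1 : ShortComplex A := ShortComplex.mk (kernel.ι φ) (Abelian.factorThruImage φ) (by
    rw [← cancel_mono (Abelian.image.ι φ), Category.assoc, Abelian.image.fac, kernel.condition,
      zero_comp])
  let S2 : ShortComplex A := ShortComplex.mk (Abelian.image.ι φ) (cokernel.π φ) (kernel.condition _)
  have hS1 : S1.ShortExact :=
    { exact := by
        refine ShortComplex.exact_of_f_is_kernel _ ?_
        exact KernelFork.IsLimit.ofι _ _ (fun {T} k hk => kernel.lift φ k (by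
            rw [← Abelian.image.fac φ, ← Category.assoc, hk, zero_comp]))
          (fun {T} k hk => kernel.lift_ι _ _ _) (fun {T} k hk b hb => by
            rw [← cancel_mono (kernel.ι φ), kernel.lift_ι]; exact hb)
      mono_f := inferInstanceAs (Mono (kernel.ι φ))
      epi_g := inferInstanceAs (Epi (Abelian.factorThruImage φ)) }
  have hS2 : S2.ShortExact :=
    { exact := ShortComplex.exact_of_f_is_kernel _ (kernelIsKernel _)
      mono_f := inferInstanceAs (Mono (Abelian.image.ι φ))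
      epi_g := inferInstanceAs (Epi (cokernel.π φ)) }
  obtain ⟨y, hy⟩ := Ext.covariant_sequence_exact₂ W hS2 x (Subsingleton.elim _ _)
  obtain ⟨z, hz⟩ := Ext.covariant_sequence_exact₃ W hS1 y rfl (Subsingleton.elim _ _)
  refine ⟨z, ?_⟩
  rw [← hy, ← hz, Ext.comp_assoc_of_third_deg_zero, Ext.mk₀_comp_mk₀]
  congr 2
  exact (Abelian.image.fac φ).symm

end Abstract

variable {T₀ T : Scheme.{u}} (i : T₀ ⟶ T) [PreservesFiniteLimits (EtCoh.pull i)] (hi : PBCi i)
  (Sig : Finset T₀) (hc : ∀ x ∈ Sig, IsClosed ({x} : Set T₀)) (hs : ∀ x ∈ Sig, IsSepClosed (T₀.residueField x))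
  {N : ℕ} (hN : 0 < N)

include hi hc hs hN in
/-- A morphism of sheaves killed by `N` which is an isomorphism outside `Sig` is surjective on cohomology in
positive degrees. -/
theorem surjective_HHmap {F G : EtCoh.Ab T} (φ : F ⟶ G) (hF : EtCoh.KilledBy N F)
    (hG : EtCoh.KilledBy N G)
    (h0 : ∀ x : T₀, x ∉ Sig → ∃ (Ω : Type u) (_ : Field Ω) (_ : IsSepClosed Ω)
      (ξ : Spec (CommRingCat.of Ω) ⟶ T₀), ξ default = x ∧
        IsIso ((EtCoh.stalk ξ).map ((EtCoh.pull i).map φ))) (k : ℕ) (hk : 1 ≤ k) :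
    Function.Surjective (HHmap φ k) := by
  have hK : EtCoh.IsTorsion (kernel φ) :=
    isTorsion_killed hN (EtpbcA.SubSheaf.killedBy_of_mono (kernel.ι φ) hF)
  have hC : EtCoh.IsTorsion (cokernel φ) :=
    isTorsion_killed hN (EtpbcA.SubSheaf.killedBy_of_epi (cokernel.π φ) hG)
  have h1 : Subsingleton (HH T (kernel φ) (k + 1)) :=
    subsingleton_H i hi Sig hc hs (kernel φ) hK (fun x hx => by
      obtain ⟨Ω, i1, i2, ξ, hξ, h⟩ := h0 x hx
      exact ⟨Ω, i1, i2, ξ, hξ, isZero_map_kernel (EtCoh.pull i ⋙ EtCoh.stalk ξ) φ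
        (by change Mono ((EtCoh.stalk ξ).map ((EtCoh.pull i).map φ)); infer_instance)⟩) (k + 1) (by omega)
  have h2 : Subsingleton (HH T (cokernel φ) k) :=
    subsingleton_H i hi Sig hc hs (cokernel φ) hC (fun x hx => by
      obtain ⟨Ω, i1, i2, ξ, hξ, h⟩ := h0 x hx
      exact ⟨Ω, i1, i2, ξ, hξ, isZero_map_cokernel (EtCoh.pull i ⋙ EtCoh.stalk ξ) φ
        (by change Epi ((EtCoh.stalk ξ).map ((EtCoh.pull i).map φ)); infer_instance)⟩) k hk
  exact surjective_of_ker_coker φ k h1 h2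

include hi hc hs in
/-- If an endomorphism `φ` of a torsion sheaf with punctual restriction to `T₀` acts trivially on global sections then
it acts trivially on the stalks at the points of `T₀`. -/
theorem stalk_map_eq_id {G : EtCoh.Ab T} (φ : G ⟶ G) (hG : EtCoh.IsTorsion G)
    (h0 : ∀ x : T₀, x ∉ Sig → ∃ (Ω : Type u) (_ : Field Ω) (_ : IsSepClosed Ω)
      (ξ : Spec (CommRingCat.of Ω) ⟶ T₀), ξ default = x ∧
        IsZero ((EtCoh.stalk ξ).obj ((EtCoh.pull i).obj G)))
    (hφ : ∀ s : EtCoh.const T ℤ ⟶ G, s ≫ φ = s)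
    {Ω : Type u} [Field Ω] [IsSepClosed Ω] (ζ : Spec (CommRingCat.of Ω) ⟶ T₀) (hζ : ζ default ∈ Sig) :
    (EtCoh.stalk ζ).map ((EtCoh.pull i).map φ) = 𝟙 _ := by
  classical
  have h1 := Etrest.Punctual186.supp_subset ((EtCoh.pull i).obj G) (Sig : Set T₀) h0
  -- all global sections of `i^* G` are invariant
  have h2 : ∀ y : HH T G 0, HHmap φ 0 y = y := by
    intro y
    obtain ⟨g, rfl⟩ := (Ext.mk₀_bijective _ _).2 y
    rw [HHmap_apply, Ext.mk₀_comp_mk₀, hφ]
  have h3 : ∀ y : HH T₀ ((EtCoh.pull i).obj G) 0, HHmap ((EtCoh.pull i).map φ) 0 y = y := by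
    intro y
    obtain ⟨z, rfl⟩ := (hi G hG 0).2 y
    exact (hp_map i φ 0 z).symm.trans (congrArg (hp i G 0) (h2 z))
  have h4 : ∀ s : EtCoh.sect ((EtCoh.pull i).obj G) (EtCoh.top T₀),
      ((EtCoh.pull i).map φ).hom.app (op (EtCoh.top T₀)) s = s := by
    intro s
    obtain ⟨y, rfl⟩ := (H0 T₀ ((EtCoh.pull i).obj G)).surjective s
    rw [← H0_map, h3]
  -- germs
  have hgeo : ∀ x : T₀, ∃ (Ω : Type u) (_ : Field Ω) (_ : IsSepClosed Ω)
      (ξ : Spec (CommRingCat.of Ω) ⟶ T₀), ξ default = x := fun x => Etcore.Stalks.exists_geom x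
  choose Ω' i1 i2 ξ hξ using hgeo
  have h5 : ∀ q : ((EtCoh.stalk (ξ (ζ default))).obj ((EtCoh.pull i).obj G) : Type (u + 1)),
      (EtCoh.stalk (ξ (ζ default))).map ((EtCoh.pull i).map φ) q = q := by
    intro q
    obtain ⟨s, hs'⟩ := Groth.Agent.Vancyc.H679.PunctPi.surjective_germs Sig hc hs ((EtCoh.pull i).obj G)
      h1 Ω' ξ hξ (Function.update
        (fun x => (0 : ((EtCoh.stalk (ξ x)).obj ((EtCoh.pull i).obj G) : Type (u + 1)))) (ζ default) q)
    have h6 := hs' (ζ default) hζ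
    rw [Function.update_self] at h6
    rw [← h6, Groth.Agent.Vancyc.H679.PunctPi.gtop_map, h4]
  obtain ⟨e⟩ := EtpbcB.GeomPointIndep.nonempty_stalkIso (ξ (ζ default)) ζ (hξ _)
  have h7 : (EtCoh.stalk (ξ (ζ default))).map ((EtCoh.pull i).map φ) = 𝟙 _ := by
    ext q
    exact h5 q
  have h8 := e.hom.naturality ((EtCoh.pull i).map φ)
  rw [h7, Category.id_comp] at h8
  rw [← cancel_epi (e.hom.app ((EtCoh.pull i).obj G)), ← h8]
  exact (Category.comp_id _).symm

end Groth.Agent.Vancyc.H693.Punct
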