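import Groth.Agent.Vancyc.H693.PVer
import Groth.Agent.Vancyc.H693.Punct
import Groth.Agent.EtpbcB.OshHens
import Groth.Agent.Etrest.Eff
import Groth.Agent.Etbase.StalkPull

/-!
# Trivial action on the stalk at an isolated singular point, over a strictly local base
-/

set_option autoImplicit false
universe u
open CategoryTheory CategoryTheory.Limits AlgebraicGeometry Opposite Abelian
open scoped Groth.Agent.Etcore.EtInst
open Groth.Agent.Etcore.EtInst Groth.Agent.Etcore.HQ Groth.Agent.Etcore.PullbackSys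

namespace Groth.Agent.Vancyc.H693.Proper

open Groth.Agent Groth.Agent.Vancyc.H679.PropLES

variable (R K Ω : Type u) [CommRing R] [Field K] [Algebra R K] [Field Ω] [Algebra K Ω]
    [Algebra R Ω]
variable [IsDomain R] [IsDiscreteValuationRing R] [IsFractionRing R K] [IsSepClosure K Ω]
  [IsScalarTower R K Ω]

include K in
/-- `R^q Theta F ≅ R^q jbar_* (jbar^* F)`. -/
theorem nonempty_iso_rightDerived {X : Scheme.{u}} (f : X ⟶ Spec (CommRingCat.of R))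
    (F : EtCoh.Ab X) (q : ℕ) :
    Nonempty (((VanCyc.Theta R Ω f).rightDerived q).obj F ≅
      (EtCoh.Rpush (VanCyc.jA R f Ω) q).obj ((EtCoh.pull (VanCyc.jA R f Ω)).obj F)) := by
  have i1 : PreservesFiniteLimits (EtCoh.pull (VanCyc.jA R f Ω)) := S0101.result _
  exact Etrest.Eff.nonempty_iso (VanCyc.Theta R Ω f) (𝟭 _) (EtCoh.pull (VanCyc.jA R f Ω))
    (EtCoh.push (VanCyc.jA R f Ω)) (Functor.rightUnitor _) (fun _ => True) (fun _ _ _ => trivial)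
    (fun F _ => ⟨Injective.under F, Injective.ι F, inferInstance, trivial, fun q hq => by
      obtain ⟨q, rfl⟩ := Nat.exists_eq_succ_of_ne_zero hq.ne'
      exact ⟨Functor.isZero_rightDerived_obj_injective_succ _ _ _,
        JAcyc.isZero_Rpush R K Ω f (Injective.under F) q⟩⟩) F trivial q

variable {V X : Scheme.{u}} (v : V ⟶ Spec (CommRingCat.of R)) (π : X ⟶ V) [QuasiCompact π]
  [QuasiSeparated π] {J : Type u} [SmallCategory J] [IsCofiltered J] (T : J ⥤ Scheme.{u})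
  (τ : ∀ a : J, T.obj a ⟶ V) (hτ : ∀ ⦃a b : J⦄ (h : a ⟶ b), T.map h ≫ τ b = τ a)
  (het : ∀ a, Etale (τ a)) (hT : ∀ a, IsAffine (T.obj a))
  (haff : ∀ ⦃a b : J⦄ (h : a ⟶ b), IsAffineHom (T.map h))
  (c : Cone T) (hc : IsLimit c) (t : c.pt ⟶ V) (ht : ∀ a, c.π.app a ≫ τ a = t)

/-- No vanishing cycles at a geometric point. -/
def NoVan {X : Scheme.{u}} (f : X ⟶ Spec (CommRingCat.of R)) (F : EtCoh.Ab X) {Ω' : Type u} [Field Ω']
    [IsSepClosed Ω'] (ξ : Spec (CommRingCat.of Ω') ⟶ X) : Prop :=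
  IsIso ((EtCoh.stalk ξ).map ((EtCoh.pullPushAdj (VanCyc.jA R f Ω)).unit.app F)) ∧
    ∀ q : ℕ, 0 < q → IsZero ((EtCoh.stalk ξ).obj ((EtCoh.Rpush (VanCyc.jA R f Ω) q).obj
      ((EtCoh.pull (VanCyc.jA R f Ω)).obj F)))

include hc hτ ht het haff hT in
/-- **Trivial action on the stalks of `R^n Theta F`.** -/
theorem main {T₀ : Scheme.{u}} (i : T₀ ⟶ pullback π t) [PreservesFiniteLimits (EtCoh.pull i)]
    (hi : PBCi i) (Sig : Finset T₀) (hcl : ∀ x ∈ Sig, IsClosed ({x} : Set T₀))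
    (hs : ∀ x ∈ Sig, IsSepClosed (T₀.residueField x)) {N : ℕ} (hN : 0 < N) (F : EtCoh.Ab X)
    (hF : EtCoh.KilledBy N F) (n : ℕ) (hn : 1 ≤ n) (σ : Ω ≃ₐ[K] Ω)
    (h0 : ∀ x : T₀, x ∉ Sig → ∃ (Ω' : Type u) (_ : Field Ω') (_ : IsSepClosed Ω')
      (ζ : Spec (CommRingCat.of Ω') ⟶ T₀), ζ default = x ∧
        NoVan R Ω (π ≫ v) F (ζ ≫ i ≫ PVer.p π T c t))
    (hΩ : Subsingleton (HH (PVer.Y R Ω v π T c t) ((EtCoh.pull (PVer.p' R Ω v π T c t)).obj
      ((EtCoh.pull (VanCyc.jA R (π ≫ v) Ω)).obj F)) n))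
    {Ω' : Type u} [Field Ω'] [IsSepClosed Ω'] (ζ : Spec (CommRingCat.of Ω') ⟶ T₀)
    (hζ : ζ default ∈ Sig) :
    (EtCoh.stalk ζ).map ((EtCoh.pull i).map ((EtCoh.pull (PVer.p π T c t)).map
      ((NatTrans.rightDerived (VanCyc.thetaEnd (π ≫ v) σ) n).app F))) = 𝟙 _ := by
  have i1 : PreservesFiniteLimits (EtCoh.pull (PVer.p π T c t)) := S0101.result _
  -- stalks on `T₀` in terms of stalks on `X`
  have hst : ∀ {Ω' : Type u} [Field Ω'] [IsSepClosed Ω'] (ζ : Spec (CommRingCat.of Ω') ⟶ T₀),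
      Nonempty (EtCoh.stalk (ζ ≫ i ≫ PVer.p π T c t) ≅
        EtCoh.pull (PVer.p π T c t) ⋙ EtCoh.pull i ⋙ EtCoh.stalk ζ) := by
    intro Ω' _ _ ζ
    refine ⟨eqToIso (by rw [Category.assoc]) ≪≫ Etbase.StalkPull.stalkPullIso (PVer.p π T c t) (ζ ≫ i) ≪≫
      Functor.isoWhiskerLeft _ (Etbase.StalkPull.stalkPullIso i ζ)⟩
  -- `R^q Theta F` is killed by `N`
  have hR : ∀ q, EtCoh.KilledBy N (((VanCyc.Theta R Ω (π ≫ v)).rightDerived q).obj F) := fun q =>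
    (EtpbcB.NKillEt.killedBy_iff N _).2 (EtpbcB.NKill.killed_map _ ((EtpbcB.NKillEt.killedBy_iff N F).1 hF))
  have hRT : ∀ q, EtCoh.IsTorsion ((EtCoh.pull (PVer.p π T c t)).obj
      (((VanCyc.Theta R Ω (π ≫ v)).rightDerived q).obj F)) := fun q =>
    isTorsion_killed hN (EtpbcB.NKillEt.killedBy_pull _ (hR q))
  -- the `R^q Theta F` are punctual
  have hz : ∀ q, 1 ≤ q → ∀ x : T₀, x ∉ Sig → ∃ (Ω' : Type u) (_ : Field Ω') (_ : IsSepClosed Ω')
      (ζ : Spec (CommRingCat.of Ω') ⟶ T₀), ζ default = x ∧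
        IsZero ((EtCoh.stalk ζ).obj ((EtCoh.pull i).obj ((EtCoh.pull (PVer.p π T c t)).obj
          (((VanCyc.Theta R Ω (π ≫ v)).rightDerived q).obj F)))) := by
    intro q hq x hx
    obtain ⟨Ω', j1, j2, ζ, hζ, h⟩ := h0 x hx
    obtain ⟨e⟩ := hst ζ
    obtain ⟨e'⟩ := nonempty_iso_rightDerived R K Ω (π ≫ v) F q
    exact ⟨Ω', j1, j2, ζ, hζ, ((h.2 q hq).of_iso ((EtCoh.stalk _).mapIso e')).of_iso (e.app _).symm⟩
  refine Punct.stalk_map_eq_id i hi Sig hcl hs _ (hRT n) (hz n hn) ?_ ζ hζ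
  refine PVer.main R K Ω v π T τ hτ het hT haff c hc t ht F n hn σ hΩ (fun a q ha hq _ => ?_) ?_
  · exact subsingleton_H i hi Sig hcl hs _ (hRT q) (hz q hq) a ha
  · refine Punct.surjective_HHmap i hi Sig hcl hs hN _ (EtpbcB.NKillEt.killedBy_pull _ hF)
      (EtpbcB.NKillEt.killedBy_pull _ (EtpbcB.NKillEt.killedBy_push _ (EtpbcB.NKillEt.killedBy_pull _ hF)))
      (fun x hx => ?_) (n + 1) (by omega)
    obtain ⟨Ω', j1, j2, ζ, hζ, h⟩ := h0 x hx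
    obtain ⟨e⟩ := hst ζ
    refine ⟨Ω', j1, j2, ζ, hζ, ?_⟩
    exact (NatIso.isIso_map_iff e _).1 h.1

end Groth.Agent.Vancyc.H693.Proper
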