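import Groth.Agent.Etcore.HpullCalc
import Groth.Agent.EtpbcB.BCCalc
import Groth.Prelude.Def_VanCyc

/-!
# The unit `F → jbar_* jbar^* F` is invariant under the Galois action
-/

set_option autoImplicit false
universe u
open CategoryTheory CategoryTheory.Limits AlgebraicGeometry Opposite

namespace Groth.Agent.Vancyc.H693.UnitTheta

open Groth.Agent.Etcore.HpullCalc

/-- `j_* j^* F → j'_* j'^* F` for `s ≫ j = j'`. -/
noncomputable def endo {X Z Z' : Scheme.{u}} (s : Z' ⟶ Z) (j : Z ⟶ X) (j' : Z' ⟶ X) (h : s ≫ j = j')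
    (F : EtCoh.Ab X) : (EtCoh.push j).obj ((EtCoh.pull j).obj F) ⟶
      (EtCoh.push j').obj ((EtCoh.pull j').obj F) :=
  ((EtCoh.push j).map ((EtCoh.pullPushAdj s).unit.app ((EtCoh.pull j).obj F)) ≫
    (EtCoh.pushComp j s).hom.app _ ≫ (EtCoh.pushCongr h).hom.app _) ≫
    (EtCoh.push j').map ((EtCore.pullComp s j).inv.app F ≫ (EtCore.pullCongr h).hom.app F)

theorem pushCongr_rfl_hom_app {X Z : Scheme.{u}} (j : Z ⟶ X) (F : EtCoh.Ab Z) :
    (EtCoh.pushCongr (rfl : j = j)).hom.app F = 𝟙 _ := by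
  apply EtpbcB.BCCalc.ab_hom_ext
  intro U
  rw [EtpbcB.BCCalc.pushCongr_hom_app_app]
  have h : (EtpbcB.BCCalc.congrIso (rfl : j = j) U).inv = 𝟙 _ := by
    apply EtpbcB.BCCalc.hom_ext_bc
    rw [EtpbcB.BCCalc.congrIso_inv_left_pr, EtpbcB.BCCalc.id_left, Category.id_comp]
  rw [h]
  exact F.obj.map_id _

theorem unit_endo {X Z Z' : Scheme.{u}} (s : Z' ⟶ Z) (j : Z ⟶ X) (j' : Z' ⟶ X) (h : s ≫ j = j')
    (F : EtCoh.Ab X) : (EtCoh.pullPushAdj j).unit.app F ≫ endo s j j' h F =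
      (EtCoh.pullPushAdj j').unit.app F := by
  subst h
  have h1 := unit_pullComp s j F
  have h2 : (EtCoh.pullPushAdj (s ≫ j)).unit.app F = ((EtCoh.pullPushAdj j).unit.app F ≫
      (EtCoh.push j).map ((EtCoh.pullPushAdj s).unit.app _) ≫ (EtCoh.pushComp j s).hom.app _) ≫
      (EtCoh.push (s ≫ j)).map ((EtCore.pullComp s j).inv.app F) := by
    rw [← h1, Category.assoc, ← CategoryTheory.Functor.map_comp, Iso.hom_inv_id_app,
      CategoryTheory.Functor.map_id]
    exact (Category.comp_id _).symm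
  have h3 : (EtCore.pullCongr (rfl : s ≫ j = s ≫ j)).hom.app F = 𝟙 _ := rfl
  rw [endo, h3, pushCongr_rfl_hom_app, Category.comp_id, Category.comp_id, h2]
  simp only [Category.assoc]

theorem thetaEnd_app {R : Type u} [CommRing R] [IsLocalRing R] {K : Type u} [Field K] [Algebra R K]
    {Ω : Type u} [Field Ω] [Algebra K Ω] [Algebra R Ω] [IsScalarTower R K Ω]
    {X : Scheme.{u}} (f : X ⟶ Spec (CommRingCat.of R)) (σ : Ω ≃ₐ[K] Ω) (F : EtCoh.Ab X) :
    (VanCyc.thetaEnd f σ).app F =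
      endo (VanCyc.galGeom f σ) (VanCyc.jA R f Ω) (VanCyc.jA R f Ω) (VanCyc.galGeom_jA f σ) F := by
  unfold VanCyc.thetaEnd
  dsimp only [NatTrans.comp_app, Functor.whiskerLeft_app, Functor.whiskerRight_app,
    Functor.leftUnitor_inv_app, Functor.associator_hom_app, Functor.associator_inv_app]
  rw [Category.id_comp, Category.id_comp]
  exact congrArg (fun t => _ ≫ t) (Category.id_comp _)

/-- The unit `F → jbar_* jbar^* F` is invariant. -/
theorem unit_thetaEnd {R : Type u} [CommRing R] [IsLocalRing R] {K : Type u} [Field K] [Algebra R K]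
    {Ω : Type u} [Field Ω] [Algebra K Ω] [Algebra R Ω] [IsScalarTower R K Ω]
    {X : Scheme.{u}} (f : X ⟶ Spec (CommRingCat.of R)) (σ : Ω ≃ₐ[K] Ω) (F : EtCoh.Ab X) :
    (EtCoh.pullPushAdj (VanCyc.jA R f Ω)).unit.app F ≫ (VanCyc.thetaEnd f σ).app F =
      (EtCoh.pullPushAdj (VanCyc.jA R f Ω)).unit.app F := by
  rw [thetaEnd_app]
  exact unit_endo _ _ _ _ F

end Groth.Agent.Vancyc.H693.UnitTheta
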