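import Groth.Agent.Vancyc.H693.AbsDer
import Groth.Agent.Vancyc.H693.JAcyc
import Groth.Agent.Vancyc.H693.UnitTheta

/-!
# Trivial action on the global sections of `R^n Theta F`
-/

set_option autoImplicit false
universe u
open CategoryTheory CategoryTheory.Limits AlgebraicGeometry Opposite Abelian
open scoped Groth.Agent.Etcore.EtInst
open Groth.Agent.Etcore.EtInst Groth.Agent.Etcore.HQ

namespace Groth.Agent.Vancyc.H693.TopMain

instance preservesFiniteLimits_push {X Y : Scheme.{u}} (f : X ⟶ Y) :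
    PreservesFiniteLimits (EtCoh.push f) := by
  have : PreservesLimitsOfSize.{0, 0} (EtCoh.push f) := (EtCoh.pullPushAdj f).rightAdjoint_preservesLimits
  exact PreservesLimitsOfSize.preservesFiniteLimits _

instance preservesFiniteLimits_Theta (R : Type u) [CommRing R] [IsLocalRing R] (Ω : Type u) [Field Ω]
    [Algebra R Ω] {X : Scheme.{u}} (f : X ⟶ Spec (CommRingCat.of R)) :
    PreservesFiniteLimits (VanCyc.Theta R Ω f) := by
  have := Groth.Agent.S0101.result (VanCyc.jA R f Ω)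
  exact comp_preservesFiniteLimits _ _

variable (R K Ω : Type u) [CommRing R] [Field K] [Algebra R K] [Field Ω] [Algebra K Ω]
    [Algebra R Ω]
variable [IsDomain R] [IsDiscreteValuationRing R] [IsFractionRing R K] [IsSepClosure K Ω]
  [IsScalarTower R K Ω]

include K in
/-- `Theta I` is acyclic for injective `I`. -/
theorem subsingleton_H_Theta {X : Scheme.{u}} (f : X ⟶ Spec (CommRingCat.of R)) [QuasiCompact f]
    [QuasiSeparated f] (I : EtCoh.Ab X) [Injective I] (p : ℕ) (hp : 1 ≤ p) :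
    Subsingleton (HH X ((VanCyc.Theta R Ω f).obj I) p) := by
  obtain ⟨p, rfl⟩ : ∃ k, p = k + 1 := ⟨p - 1, by omega⟩
  exact Groth.Agent.EtpbcA.CdEtLeray.H_push_subsingleton_of_reverse (VanCyc.jA R f Ω)
    ((EtCoh.pull (VanCyc.jA R f Ω)).obj I) p
    (JInj.subsingleton_H R K Ω f I (p + 1) (Nat.le_add_left 1 p))
    (fun a b _ => Groth.Agent.EtpbcA.CdEtLeray.H_subsingleton_of_isZero
      (JAcyc.isZero_Rpush R K Ω f I b) a)

theorem homEquiv_symm_zero {A B : Type*} [Category* A] [Category* B] [Preadditive A] [Preadditive B]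
    {L : A ⥤ B} {G : B ⥤ A} [L.Additive] (adj : L ⊣ G) (X : A) (Y : B) :
    (adj.homEquiv X Y).symm 0 = 0 := by
  rw [Adjunction.homEquiv_counit, Functor.map_zero, zero_comp]

theorem isZero_homology_map {A : Type*} [Category* A] [Abelian A] {B : Type*} [Category* B] [Abelian B]
    (L : A ⥤ B) [L.Additive] [PreservesFiniteLimits L] [PreservesFiniteColimits L]
    (C : CochainComplex A ℕ) (q : ℕ) (h : C.ExactAt q) :
    IsZero (((L.mapHomologicalComplex (ComplexShape.up ℕ)).obj C).homology q) := by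
  have h1 : L.PreservesHomology := inferInstance
  have h2 : ((C.sc q).map L).Exact := ShortComplex.Exact.map h L
  exact (HomologicalComplex.exactAt_iff_isZero_homology _ q).1 h2

include K in
theorem exists_lift {X : Scheme.{u}} (f : X ⟶ Spec (CommRingCat.of R)) [QuasiCompact f]
    [QuasiSeparated f] {F : EtCoh.Ab X} (J : InjectiveResolution F) (n : ℕ) (hn : 1 ≤ n)
    (hΩ : Subsingleton (HH (VanCyc.fib R f Ω) ((EtCoh.pull (VanCyc.jA R f Ω)).obj F) n))
    (s : EtCoh.const X ℤ ⟶ (VanCyc.Theta R Ω f).obj (J.cocomplex.X n))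
    (hs : s ≫ (VanCyc.Theta R Ω f).map (J.cocomplex.d n (n + 1)) = 0) :
    ∃ t : EtCoh.const X ℤ ⟶ (VanCyc.Theta R Ω f).obj (J.cocomplex.X (n - 1)),
      t ≫ (VanCyc.Theta R Ω f).map (J.cocomplex.d (n - 1) n) = s := by
  have h0 : PreservesFiniteLimits (EtCoh.pull (VanCyc.jA R f Ω)) :=
    Groth.Agent.S0101.result (VanCyc.jA R f Ω)
  let adj := EtCoh.pullPushAdj (VanCyc.jA R f Ω)
  let C := ((EtCoh.pull (VanCyc.jA R f Ω)).mapHomologicalComplex (ComplexShape.up ℕ)).obj J.cocomplex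
  let W := (EtCoh.pull (VanCyc.jA R f Ω)).obj (EtCoh.const X ℤ)
  have hW : ∀ (G : EtCoh.Ab (VanCyc.fib R f Ω)) (p : ℕ), Subsingleton (HH (VanCyc.fib R f Ω) G p) →
      Subsingleton (Ext.{u + 1} W G p) := fun G p h =>
    Groth.Agent.EtpbcA.CdEtLeray.subsingleton_ext_of_iso_left
      (EtCore.pullConst (VanCyc.jA R f Ω) ℤ).symm G p h
  have hex : ∀ q, 1 ≤ q → q ≤ n → IsZero (C.homology q) := fun q hq _ => by
    obtain ⟨q, rfl⟩ : ∃ k, q = k + 1 := ⟨q - 1, by omega⟩
    exact isZero_homology_map (EtCoh.pull (VanCyc.jA R f Ω)) _ _ (J.cocomplex_exactAt_succ q)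
  have ha : ∀ q p, 1 ≤ p → Subsingleton (Ext.{u + 1} W (C.X q) p) := fun q p hp =>
    hW _ _ (JInj.subsingleton_H R K Ω f (J.cocomplex.X q) p hp)
  have hZ : Subsingleton (Ext.{u + 1} W (C.cycles 0) n) := by
    obtain ⟨e, _⟩ := AbsDer.exists_cyc0_map (EtCoh.pull (VanCyc.jA R f Ω)) J
    exact AbsDer.subsingleton_ext_of_iso e n (hW _ _ hΩ)
  obtain ⟨t, ht⟩ := ExactHom.main C W n hn hex ha hZ ((adj.homEquiv _ _).symm s) (by
    rw [← Adjunction.homEquiv_naturality_right_symm]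
    exact (congrArg _ hs).trans (homEquiv_symm_zero adj _ _))
  refine ⟨adj.homEquiv _ _ t, ?_⟩
  have h3 := congrArg (adj.homEquiv _ _) ht
  rw [Equiv.apply_symm_apply] at h3
  rw [← h3]
  exact (adj.homEquiv_naturality_right t _).symm

/-- **Trivial action on the global sections of `R^n Theta F`.** -/
theorem main {X : Scheme.{u}} (f : X ⟶ Spec (CommRingCat.of R)) [QuasiCompact f]
    [QuasiSeparated f] (F : EtCoh.Ab X) (n : ℕ) (hn : 1 ≤ n) (σ : Ω ≃ₐ[K] Ω)
    (hΩ : Subsingleton (HH (VanCyc.fib R f Ω) ((EtCoh.pull (VanCyc.jA R f Ω)).obj F) n))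
    (hb : ∀ p q, 1 ≤ p → 1 ≤ q → q < n →
      Subsingleton (HH X (((VanCyc.Theta R Ω f).rightDerived q).obj F) p))
    (hd : Function.Surjective (HHmap ((EtCoh.pullPushAdj (VanCyc.jA R f Ω)).unit.app F) (n + 1)))
    (s : EtCoh.const X ℤ ⟶ ((VanCyc.Theta R Ω f).rightDerived n).obj F) :
    s ≫ (NatTrans.rightDerived (VanCyc.thetaEnd f σ) n).app F = s := by
  refine AbsDer.main (VanCyc.Theta R Ω f) (VanCyc.thetaEnd f σ) (injectiveResolution F)
    (EtCoh.const X ℤ) n hn (fun I hI p hp => subsingleton_H_Theta R K Ω f I p hp) hb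
    (exists_lift R K Ω f (injectiveResolution F) n hn hΩ) ?_ s
  intro x
  obtain ⟨y, rfl⟩ := hd x
  exact (HHmap_comp _ _ (n + 1) y).symm.trans
    (congrArg (fun t => HHmap t (n + 1) y) (UnitTheta.unit_thetaEnd f σ F))

end Groth.Agent.Vancyc.H693.TopMain
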